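import Mathlib

/-!
Elements acting without fixed points on an abelian group: a normalised subgroup acts trivially,
two independent commuting elements of prime order cannot both act in that way.
-/

set_option autoImplicit false
set_option linter.style.haveILetI false

open Finset

namespace CfsgLib.TripleFree

universe u v

variable {G : Type u} [Group G] {W : Type v} [CommGroup W] {ρ : G →* MulAut W}

/-- `x` acts without nontrivial fixed points. -/
def Fpf (ρ : G →* MulAut W) (x : G) : Prop := ∀ w : W, ρ x w = w → w = 1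

theorem exists_fixed_of_not_fpf {x : G} (h : ¬ Fpf ρ x) : ∃ w : W, w ≠ 1 ∧ ρ x w = w := by
  obtain ⟨w, hw⟩ := not_forall.1 h
  rw [Classical.not_imp] at hw
  exact ⟨w, hw.2, hw.1⟩

theorem fixed_pow {x : G} {w : W} (h : ρ x w = w) (k : ℕ) : ρ (x ^ k) w = w := by
  induction k with
  | zero => simp
  | succ k ih => rw [pow_succ, map_mul, MulAut.mul_apply, h, ih]

theorem fixed_zpow {x : G} {w : W} (h : ρ x w = w) (k : ℤ) : ρ (x ^ k) w = w := by
  have hinv : ∀ n : ℕ, ρ ((x ^ n)⁻¹) w = w := fun n => by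
    conv_lhs => rw [← fixed_pow h n]
    rw [← MulAut.mul_apply, ← map_mul, inv_mul_cancel, map_one, MulAut.one_apply]
  cases k with
  | ofNat n => simpa using fixed_pow h n
  | negSucc n => simpa using hinv (n + 1)

theorem fixed_of_pow {x : G} {w : W} {i j : ℕ} (hij : (x ^ i) ^ j = x) (h : ρ (x ^ i) w = w) :
    ρ x w = w := by
  rw [← hij]
  exact fixed_pow h j

theorem exists_pow_pow_eq {x : G} {q i : ℕ} (hq : q.Prime) (hx : x ^ q = 1) (h1 : 1 ≤ i)
    (h2 : i < q) : ∃ j, (x ^ i) ^ j = x :=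
  exists_pow_eq_self_of_coprime (Nat.Coprime.coprime_dvd_right (orderOf_dvd_of_pow_eq_one hx)
    (hq.coprime_iff_not_dvd.2 (fun h => absurd (Nat.le_of_dvd h1 h) (Nat.not_le.2 h2))).symm)

theorem Fpf.pow {x : G} {q i : ℕ} (h : Fpf ρ x) (hq : q.Prime) (hx : x ^ q = 1) (h1 : 1 ≤ i)
    (h2 : i < q) : Fpf ρ (x ^ i) := by
  obtain ⟨j, hj⟩ := exists_pow_pow_eq hq hx h1 h2
  exact fun w hw => h w (fixed_of_pow hj hw)

theorem Fpf.conj {x : G} (h : Fpf ρ x) (g : G) : Fpf ρ (g * x * g⁻¹) := by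
  intro w hw
  have h1 : ρ x (ρ g⁻¹ w) = ρ g⁻¹ w := by
    have := congrArg (ρ g⁻¹) hw
    rwa [← MulAut.mul_apply, ← map_mul, show g⁻¹ * (g * x * g⁻¹) = x * g⁻¹ by group, map_mul,
      MulAut.mul_apply] at this
  exact (MulEquiv.map_eq_one_iff _).1 (h _ h1)

theorem prod_pow_eq_one {x : G} {n : ℕ} (hx : x ^ n = 1) (h : Fpf ρ x) (w : W) :
    ∏ i ∈ range n, ρ (x ^ i) w = 1 := by
  refine h _ ?_
  have h1 : ∀ i, ρ x (ρ (x ^ i) w) = ρ (x ^ (i + 1)) w := fun i => by
    rw [← MulAut.mul_apply, ← map_mul, ← pow_succ']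
  rw [map_prod, Finset.prod_congr rfl fun i _ => h1 i]
  have h2 := Finset.prod_range_succ' (fun i => ρ (x ^ i) w) n
  rw [Finset.prod_range_succ, hx, pow_zero] at h2
  exact (mul_right_cancel h2).symm

/-- A subgroup normalised, semiregularly, by an element without fixed points acts trivially. -/
theorem trivial_of_fpf [Finite G] {s : ℕ} (hW : ∀ w : W, w ^ s = 1) (N : Subgroup G) {h : G}
    {n : ℕ} (hn : h ^ n = 1) (hn0 : 0 < n) (hnorm : ∀ x ∈ N, h * x * h⁻¹ ∈ N)
    (hfree : ∀ i, 1 ≤ i → i < n → ∀ x ∈ N, Commute x (h ^ i) → x = 1)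
    (hcop : (Nat.card N).Coprime s) (hfpf : Fpf ρ h) : ∀ x ∈ N, ∀ w, ρ x w = w := by
  classical
  cases nonempty_fintype N
  intro x₀ hx₀ w
  obtain ⟨m, rfl⟩ : ∃ m, n = m + 1 := ⟨n - 1, by omega⟩
  have hpw : ∀ i : ℕ, ∀ x ∈ N, h ^ i * x * (h ^ i)⁻¹ ∈ N := by
    intro i
    induction i with
    | zero => intro x hx; simpa using hx
    | succ i ih =>
      intro x hx
      rw [show h ^ (i + 1) * x * (h ^ (i + 1))⁻¹ = h * (h ^ i * x * (h ^ i)⁻¹) * h⁻¹ by
        rw [pow_succ']; group]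
      exact hnorm _ (ih x hx)
  have hT : ∀ u : W, ρ x₀ (∏ x : N, ρ (x : G) u) = ∏ x : N, ρ (x : G) u := by
    intro u
    rw [map_prod]
    refine Fintype.prod_equiv (Equiv.mulLeft (⟨x₀, hx₀⟩ : N)) _ _ fun x => ?_
    show ρ x₀ (ρ (x : G) u) = ρ (x₀ * (x : G)) u
    rw [map_mul, MulAut.mul_apply]
  have key : ∏ i ∈ range (m + 1), ∏ x : N, ρ (((x : G) * h * (x : G)⁻¹) ^ i) w = 1 := by
    rw [Finset.prod_comm]
    refine Finset.prod_eq_one fun x _ => prod_pow_eq_one ?_ (hfpf.conj _) w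
    rw [conj_pow, hn, mul_one, mul_inv_cancel]
  have hterm : ∀ i, 1 ≤ i → i < m + 1 → ∏ x : N, ρ (((x : G) * h * (x : G)⁻¹) ^ i) w =
      ∏ x : N, ρ (x : G) (ρ (h ^ i) w) := by
    intro i h1 h2
    let φ : N → N := fun x =>
      ⟨(x : G) * (h ^ i * (x : G)⁻¹ * (h ^ i)⁻¹), mul_mem x.2 (hpw i _ (inv_mem x.2))⟩
    have hφ : Function.Bijective φ := Finite.injective_iff_bijective.1 fun a b hab => by
      have he : (a : G) * (h ^ i * (a : G)⁻¹ * (h ^ i)⁻¹) =
          (b : G) * (h ^ i * (b : G)⁻¹ * (h ^ i)⁻¹) := congrArg Subtype.val hab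
      have hc : Commute ((b : G)⁻¹ * a) (h ^ i) := by
        show (b : G)⁻¹ * a * h ^ i = h ^ i * ((b : G)⁻¹ * a)
        calc (b : G)⁻¹ * a * h ^ i
            = (b : G)⁻¹ * ((a : G) * (h ^ i * (a : G)⁻¹ * (h ^ i)⁻¹)) * (h ^ i * a) := by group
          _ = (b : G)⁻¹ * ((b : G) * (h ^ i * (b : G)⁻¹ * (h ^ i)⁻¹)) * (h ^ i * a) := by rw [he]
          _ = h ^ i * ((b : G)⁻¹ * a) := by group
      exact Subtype.ext (inv_mul_eq_one.1 (hfree i h1 h2 _ (mul_mem (inv_mem b.2) a.2) hc)).symm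
    refine Fintype.prod_bijective φ hφ _ _ fun x => ?_
    rw [conj_pow]
    show _ = ρ ((x : G) * (h ^ i * (x : G)⁻¹ * (h ^ i)⁻¹)) (ρ (h ^ i) w)
    rw [← MulAut.mul_apply, ← map_mul]
    congr 2
    group
  rw [Finset.prod_range_succ', Finset.prod_congr rfl fun i hi =>
    hterm (i + 1) (Nat.le_add_left 1 i) (by have := Finset.mem_range.1 hi; omega)] at key
  simp only [pow_zero, map_one, MulAut.one_apply, Finset.prod_const, Finset.card_univ] at key
  have hfix : ρ x₀ (w ^ Fintype.card N) = w ^ Fintype.card N := by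
    rw [eq_inv_of_mul_eq_one_right key, map_inv, map_prod]
    simp only [hT]
  have h1 : (ρ x₀ w * w⁻¹) ^ Fintype.card N = 1 := by
    rw [mul_pow, ← map_pow, hfix, inv_pow, mul_inv_cancel]
  have h2 : orderOf (ρ x₀ w * w⁻¹) = 1 :=
    Nat.eq_one_of_dvd_coprimes (Nat.card_eq_fintype_card (α := N) ▸ hcop)
      (orderOf_dvd_of_pow_eq_one h1) (orderOf_dvd_of_pow_eq_one (hW _))
  exact mul_inv_eq_one.1 (orderOf_eq_one_iff.1 h2)

/-- An element of prime order without fixed points centralises the abelian subgroups of coprime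
order which it normalises. -/
theorem centralises_of_fpf [Finite G] {s : ℕ} (hW : ∀ w : W, w ^ s = 1)
    (hρ : Function.Injective ρ) {y : G} {q : ℕ} (hq : q.Prime) (hy : y ^ q = 1)
    (hfpf : Fpf ρ y) (N : Subgroup G) (hcomm : ∀ a ∈ N, ∀ b ∈ N, a * b = b * a)
    (hnorm : ∀ x ∈ N, y * x * y⁻¹ ∈ N) (hcq : (Nat.card N).Coprime q)
    (hcs : (Nat.card N).Coprime s) : ∀ x ∈ N, y * x = x * y := by
  let δ : N →* G :=
    { toFun := fun a => y * (a : G) * y⁻¹ * (a : G)⁻¹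
      map_one' := by simp
      map_mul' := fun a b => by
        have e : y * ((a * b : N) : G) * y⁻¹ * ((a * b : N) : G)⁻¹ =
            y * (a : G) * y⁻¹ * (y * (b : G) * y⁻¹ * (b : G)⁻¹ * (a : G)⁻¹) := by
          rw [Subgroup.coe_mul]; group
        rw [e, hcomm _ (mul_mem (hnorm _ b.2) (inv_mem b.2)) _ (inv_mem a.2), ← mul_assoc] }
  have hδN : ∀ a : N, δ a ∈ N := fun a => mul_mem (hnorm _ a.2) (inv_mem a.2)
  have hle : δ.range ≤ N := by rintro _ ⟨a, rfl⟩; exact hδN a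
  have hfree : ∀ i, 1 ≤ i → i < q → ∀ x ∈ δ.range, Commute x (y ^ i) → x = 1 := by
    rintro i h1 h2 _ ⟨a, rfl⟩ hc
    obtain ⟨j, hj⟩ := exists_pow_pow_eq hq hy h1 h2
    have hcy : Commute (δ a) y := hj ▸ hc.pow_right j
    have hk : ∀ k : ℕ, y ^ k * (a : G) * (y ^ k)⁻¹ = δ a ^ k * a := by
      intro k
      induction k with
      | zero => simp
      | succ k ih =>
        calc y ^ (k + 1) * (a : G) * (y ^ (k + 1))⁻¹
            = y * (y ^ k * (a : G) * (y ^ k)⁻¹) * y⁻¹ := by rw [pow_succ']; group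
          _ = y * δ a ^ k * (a * y⁻¹) := by rw [ih]; group
          _ = δ a ^ k * (y * a * y⁻¹ * (a : G)⁻¹) * a := by
            rw [← (hcy.pow_left k).eq]; group
          _ = δ a ^ (k + 1) * a := by rw [pow_succ]; rfl
    have h3 := hk q
    rw [hy, one_mul, inv_one, mul_one, right_eq_mul] at h3
    have h4 : orderOf (δ a) ∣ Nat.card N :=
      (Subgroup.orderOf_mk (δ a) (hδN a)) ▸ orderOf_dvd_natCard (⟨δ a, hδN a⟩ : N)
    exact orderOf_eq_one_iff.1 (Nat.eq_one_of_dvd_coprimes hcq h4 (orderOf_dvd_of_pow_eq_one h3))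
  have hδn : ∀ x ∈ δ.range, y * x * y⁻¹ ∈ δ.range := by
    rintro _ ⟨a, rfl⟩
    refine ⟨⟨y * a * y⁻¹, hnorm _ a.2⟩, ?_⟩
    show y * (y * (a : G) * y⁻¹) * y⁻¹ * (y * (a : G) * y⁻¹)⁻¹ =
      y * (y * (a : G) * y⁻¹ * (a : G)⁻¹) * y⁻¹
    group
  have hcs' := hcs.coprime_dvd_left (Subgroup.card_dvd_of_le hle)
  intro x hx
  have h1 := trivial_of_fpf hW δ.range hy hq.pos hδn hfree hcs' hfpf (δ ⟨x, hx⟩) ⟨_, rfl⟩
  have h2 : y * x * y⁻¹ * x⁻¹ = 1 := hρ (by rw [map_one]; exact MulEquiv.ext h1)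
  rwa [mul_inv_eq_one, mul_inv_eq_iff_eq_mul] at h2

/-- Two independent commuting elements of prime order: some nontrivial product has a fixed
point. -/
theorem exists_fixed_of_commute {r s : ℕ} (hr : r.Prime) (hW : ∀ w : W, w ^ s = 1)
    (hrs : r.Coprime s) [Nontrivial W] {a b : G} (hab : Commute a b) (ha : a ^ r = 1)
    (hb : b ^ r = 1) (hb1 : b ≠ 1) (hna : a ∉ Subgroup.zpowers b) :
    ∃ g ∈ Subgroup.closure {a, b}, g ≠ 1 ∧ g ^ r = 1 ∧ ∃ w : W, w ≠ 1 ∧ ρ g w = w := by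
  by_contra! hcon
  have hfpf : ∀ g ∈ Subgroup.closure {a, b}, g ≠ 1 → g ^ r = 1 → Fpf ρ g :=
    fun g h1 h2 h3 w hw => by_contra fun h4 => hcon g h1 h2 h3 w h4 hw
  have ham : a ∈ Subgroup.closure {a, b} := Subgroup.subset_closure (by simp)
  have hbm : b ∈ Subgroup.closure {a, b} := Subgroup.subset_closure (by simp)
  have habj : ∀ j : ℕ, Fpf ρ (a * b ^ j) ∧ (a * b ^ j) ^ r = 1 := by
    intro j
    have h1 : (a * b ^ j) ^ r = 1 := by
      rw [(hab.pow_right j).mul_pow, ha, one_mul, ← pow_mul, mul_comm, pow_mul, hb, one_pow]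
    refine ⟨hfpf _ (mul_mem ham (pow_mem hbm j)) (fun h => hna ?_) h1, h1⟩
    rw [eq_inv_of_mul_eq_one_left h]
    exact inv_mem (Subgroup.npow_mem_zpowers b j)
  obtain ⟨w, hw⟩ := exists_ne (1 : W)
  apply hw
  have key : ∏ i ∈ range r, ∏ j ∈ range r, ρ ((a * b ^ j) ^ i) w = 1 := by
    rw [Finset.prod_comm]
    exact Finset.prod_eq_one fun j _ => prod_pow_eq_one (habj j).2 (habj j).1 w
  rw [Finset.prod_eq_single 0] at key
  · simp only [pow_zero, map_one, MulAut.one_apply, Finset.prod_const, Finset.card_range] at key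
    exact orderOf_eq_one_iff.1 (Nat.eq_one_of_dvd_coprimes hrs (orderOf_dvd_of_pow_eq_one key)
      (orderOf_dvd_of_pow_eq_one (hW w)))
  · intro i hi hi0
    have h1 : 1 ≤ i := Nat.one_le_iff_ne_zero.2 hi0
    have hir := Finset.mem_range.1 hi
    have hbi : Fpf ρ (b ^ i) := (hfpf b hbm hb1 hb).pow hr hb h1 hir
    have hbir : (b ^ i) ^ r = 1 := by rw [← pow_mul, mul_comm, pow_mul, hb, one_pow]
    have e : ∀ j : ℕ, ρ ((a * b ^ j) ^ i) w = ρ (a ^ i) (ρ ((b ^ i) ^ j) w) := fun j => by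
      rw [(hab.pow_right j).mul_pow, map_mul, MulAut.mul_apply, pow_right_comm]
    rw [Finset.prod_congr rfl fun j _ => e j, ← map_prod, prod_pow_eq_one hbir hbi, map_one]
  · exact fun h => absurd (Finset.mem_range.2 hr.pos) h

/-- The action on an invariant subgroup. -/
def restrictRep (ρ : G →* MulAut W) (U : Subgroup W) (hU : ∀ g, ∀ w ∈ U, ρ g w ∈ U) :
    G →* MulAut U where
  toFun g :=
    { toFun := fun w => ⟨ρ g w, hU g _ w.2⟩
      invFun := fun w => ⟨ρ g⁻¹ w, hU g⁻¹ _ w.2⟩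
      left_inv := fun w => Subtype.ext (by
        show ρ g⁻¹ (ρ g w) = w
        rw [← MulAut.mul_apply, ← map_mul, inv_mul_cancel, map_one, MulAut.one_apply])
      right_inv := fun w => Subtype.ext (by
        show ρ g (ρ g⁻¹ w) = w
        rw [← MulAut.mul_apply, ← map_mul, mul_inv_cancel, map_one, MulAut.one_apply])
      map_mul' := fun x y => Subtype.ext (map_mul (ρ g) _ _) }
  map_one' := MulEquiv.ext fun w => Subtype.ext (by
    show ρ 1 (w : W) = w
    rw [map_one, MulAut.one_apply])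
  map_mul' g g' := MulEquiv.ext fun w => Subtype.ext (by
    show ρ (g * g') (w : W) = ρ g (ρ g' w)
    rw [map_mul, MulAut.mul_apply])

@[simp] theorem restrictRep_apply (ρ : G →* MulAut W) (U : Subgroup W)
    (hU : ∀ g, ∀ w ∈ U, ρ g w ∈ U) (g : G) (w : U) :
    ((restrictRep ρ U hU g w : U) : W) = ρ g w := rfl

/-- The fixed points of an element. -/
def fixSub (ρ : G →* MulAut W) (g : G) : Subgroup W where
  carrier := {w | ρ g w = w}
  one_mem' := map_one (ρ g)
  mul_mem' := fun {a b} (ha : ρ g a = a) (hb : ρ g b = b) => by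
    show ρ g (a * b) = a * b
    rw [map_mul, ha, hb]
  inv_mem' := fun {a} (ha : ρ g a = a) => by
    show ρ g a⁻¹ = a⁻¹
    rw [map_inv, ha]

theorem fixSub_invariant (ρ : G →* MulAut W) (g : G) (x : Subgroup.centralizer ({g} : Set G))
    (w : W) (hw : w ∈ fixSub ρ g) : ρ (x : G) w ∈ fixSub ρ g := by
  show ρ g (ρ (x : G) w) = ρ (x : G) w
  rw [← MulAut.mul_apply, ← map_mul, ← Subgroup.mem_centralizer_singleton_iff.1 x.2, map_mul,
    MulAut.mul_apply, show ρ g w = w from hw]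

/-- The centraliser of an element acting on its fixed points. -/
def fixRep (ρ : G →* MulAut W) (g : G) :
    Subgroup.centralizer ({g} : Set G) →* MulAut (fixSub ρ g) :=
  restrictRep (ρ.comp (Subgroup.centralizer ({g} : Set G)).subtype) (fixSub ρ g)
    fun x w hw => fixSub_invariant ρ g x w hw

@[simp] theorem fixRep_apply (ρ : G →* MulAut W) (g : G)
    (x : Subgroup.centralizer ({g} : Set G)) (w : fixSub ρ g) :
    ((fixRep ρ g x w : fixSub ρ g) : W) = ρ (x : G) w := rfl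

end CfsgLib.TripleFree
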