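import Mathlib
import Cfsg.Agent.ShultGross.Height
import Cfsg.Agent.ShultGross.CharData
import Cfsg.Agent.TripleFree.Fpf

/-!
An element of prime order without fixed points on a faithful module centralises every normalised
`p`-subgroup for odd `p`, the three primes being distinct.
-/

set_option autoImplicit false
set_option linter.style.haveILetI false

open Finset Module
open scoped commutatorElement

namespace CfsgLib.TripleFree

open CfsgLib.ShultGross

universe u v w

variable {K : Type u} [Field K] [IsAlgClosed K] {V : Type v} [AddCommGroup V] [Module K V]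
  [FiniteDimensional K V] {p q : ℕ} [hp : Fact p.Prime] [hq : Fact q.Prime]

theorem aut_eq_one_of_vanishing (hp2 : p ≠ 2) (hpq : p ≠ q) (hpK : (p : K) ≠ 0)
    (hqK : (q : K) ≠ 0) : ∀ (b : ℕ) {Q : Type w} [Group Q] [Finite Q], Nat.card Q ≤ b →
    IsPGroup p Q → ∀ σ : MulAut Q, σ ^ q = 1 →
    ∀ ψ : Q →* Module.End K V, Function.Injective ψ →
    ∀ s : Module.End K V, s ^ q = 1 → (∀ x, s * ψ x = ψ (σ x) * s) →
      ∑ i ∈ range q, s ^ i = 0 → ∀ x, σ x = x := by
  intro b
  induction b with
  | zero => intro Q _ _ hc; exact absurd hc (Nat.not_le.2 Nat.card_pos)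
  | succ b ih =>
    intro Q _ _ hc hQ σ hσ ψ hψ s hs hcompat hT
    by_contra! hne
    obtain ⟨x₁, hx₁⟩ := hne
    haveI : Nontrivial Q := ⟨⟨σ x₁, x₁, hx₁⟩⟩
    obtain ⟨e₀, he₀⟩ := IsPGroup.iff_card.1 hQ
    have hQK : (Nat.card Q : K) ≠ 0 := by rw [he₀, Nat.cast_pow]; exact pow_ne_zero _ hpK
    have hcop : q.Coprime (Nat.card Q) := by
      rw [he₀]
      exact Nat.Coprime.pow_right _ ((Nat.coprime_primes hq.out hp.out).2 hpq.symm)
    -- proper invariant subgroups are fixed
    have hsmall : ∀ L : Subgroup Q, (∀ x ∈ L, σ x ∈ L) → L ≠ ⊤ → ∀ x ∈ L, σ x = x := by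
      intro L hL hLt x hx
      let σL : MulAut L := MulEquiv.ofBijective
        ({ toFun := fun y => ⟨σ y, hL _ y.2⟩
           map_one' := Subtype.ext (map_one σ)
           map_mul' := fun y z => Subtype.ext (map_mul σ _ _) } : L →* L)
        (Finite.injective_iff_bijective.1 fun y z h =>
          Subtype.ext (σ.injective (congrArg Subtype.val h)))
      have hσL : ∀ (i : ℕ) (y : L), ((σL ^ i) y : Q) = (σ ^ i) y := by
        intro i
        induction i with
        | zero => intro y; simp
        | succ i ih' =>
          intro y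
          rw [pow_succ', MulAut.mul_apply, pow_succ' σ, MulAut.mul_apply, ← ih']
          rfl
      have hlt : Nat.card L < Nat.card Q :=
        lt_of_le_of_ne (Nat.le_of_dvd Nat.card_pos (Subgroup.card_subgroup_dvd_card L))
          (fun he => hLt (Subgroup.eq_top_of_card_eq L he))
      exact congrArg Subtype.val (ih (Q := L) (by omega) (hQ.to_subgroup L) σL
        (MulEquiv.ext fun y => Subtype.ext (by rw [hσL, hσ, MulAut.one_apply, MulAut.one_apply]))
        (ψ.comp L.subtype) (hψ.comp L.subtype_injective) s hs (fun y => hcompat y) hT ⟨x, hx⟩)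
    have hDi : ∀ y ∈ twist σ, σ y ∈ twist σ := fun y hy => twist_invariant σ σ (fun _ => rfl) hy
    have hDtop : twist σ = ⊤ := by
      by_contra hDt
      exact hx₁ (eq_of_fixes_twist σ hσ hcop (hsmall _ hDi hDt) x₁)
    have hstep : ∀ (R : Subgroup Q), R.Normal → (∀ x ∈ R, σ x ∈ R) → commutator Q ≤ R →
        ∀ x, x⁻¹ * σ x ∈ R → x ∈ R := by
      intro R hRn hRi hR x hx
      haveI := hRn
      have hab : ∀ a c : Q ⧸ R, a * c = c * a := by
        intro a c
        induction a using QuotientGroup.induction_on with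
        | H a =>
          induction c using QuotientGroup.induction_on with
          | H c =>
            rw [← QuotientGroup.mk_mul, ← QuotientGroup.mk_mul, QuotientGroup.eq]
            apply hR
            have := Subgroup.commutator_mem_commutator (Subgroup.mem_top c⁻¹) (Subgroup.mem_top a⁻¹)
            rw [commutatorElement_def, inv_inv, inv_inv] at this
            rw [mul_inv_rev, ← mul_assoc]
            exact this
      let g : Q →* Q ⧸ R :=
        { toFun := fun y => ((y⁻¹ * σ y : Q) : Q ⧸ R)
          map_one' := by simp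
          map_mul' := fun y z => by
            rw [map_mul, mul_inv_rev, show z⁻¹ * y⁻¹ * (σ y * σ z) = z⁻¹ * (y⁻¹ * σ y) * σ z by
              group, QuotientGroup.mk_mul, QuotientGroup.mk_mul, hab ((z⁻¹ : Q) : Q ⧸ R),
              mul_assoc, ← QuotientGroup.mk_mul] }
      let f : Q ⧸ R →* Q ⧸ R := QuotientGroup.lift R g fun y hy =>
        (QuotientGroup.eq_one_iff _).2 (mul_mem (inv_mem hy) (hRi y hy))
      have hsur : Function.Surjective f := by
        rw [← MonoidHom.range_eq_top, eq_top_iff]
        intro z _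
        induction z using QuotientGroup.induction_on with
        | H z =>
          refine (show twist σ ≤ f.range.comap (QuotientGroup.mk' R) from
            (Subgroup.closure_le _).2 ?_) (hDtop ▸ Subgroup.mem_top z)
          rintro _ ⟨y, rfl⟩
          exact ⟨(y : Q ⧸ R), rfl⟩
      have hinj := Finite.injective_iff_surjective.2 hsur
      rw [← QuotientGroup.eq_one_iff]
      apply hinj
      rw [map_one]
      exact (QuotientGroup.eq_one_iff _).2 hx
    -- the commutator subgroup is central
    set F := frattini Q with hF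
    haveI hFn : F.Normal := by rw [hF]; infer_instance
    have hFne : F ≠ ⊤ := fun h => by
      have := frattini_nongenerating (G := Q) (K := ⊥) (by rw [bot_sup_eq, ← hF, h])
      exact bot_ne_top this
    have hFinv : ∀ y ∈ F, σ y ∈ F := fun y hy => by
      have h := Subgroup.characteristic_iff_map_eq.1 (inferInstance : (frattini Q).Characteristic) σ
      show σ y ∈ frattini Q
      rw [← h]
      exact ⟨y, hy, rfl⟩
    have hFσ : ∀ y ∈ F, σ y = y := hsmall F hFinv hFne
    have hQ' : commutator Q ≤ F := CfsgLib.Solvable.commutator_le_frattini hQ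
    have hcent : commutator Q ≤ Subgroup.center Q := by
      intro y hy
      rw [Subgroup.mem_center_iff]
      intro x
      have hyF := hQ' hy
      have : twist σ ≤ Subgroup.centralizer {y} := by
        refine (Subgroup.closure_le _).2 ?_
        rintro _ ⟨z, rfl⟩
        refine Subgroup.mem_centralizer_singleton_iff.2 ?_
        have h1 := hFσ _ (hFn.conj_mem y hyF z)
        rw [map_mul, map_mul, map_inv, hFσ y hyF] at h1
        calc z⁻¹ * σ z * y = z⁻¹ * (σ z * y * (σ z)⁻¹) * σ z := by group
          _ = z⁻¹ * (z * y * z⁻¹) * σ z := by rw [h1]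
          _ = y * (z⁻¹ * σ z) := by group
      exact Subgroup.mem_centralizer_singleton_iff.1 (this (hDtop ▸ Subgroup.mem_top x))
    have hord : ∀ {P : ℕ}, P ∣ q → P = 1 ∨ P = q := fun h => (Nat.dvd_prime hq.out).1 h
    by_cases habel : ∀ a c : Q, a * c = c * a
    · -- the abelian case
      have htop : Subgroup.center Q = ⊤ :=
        eq_top_iff.2 fun y _ => Subgroup.mem_center_iff.2 fun g => habel g y
      have hz₀1 : x₁⁻¹ * σ x₁ ≠ 1 := fun h => hx₁ (inv_mul_eq_one.1 h).symm
      obtain ⟨R, lam, -, hcR, -, hz, -, hne', -⟩ := exists_scalar_data hQK hcent ψ hψ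
        (htop ▸ Subgroup.mem_top (x₁⁻¹ * σ x₁)) hz₀1
      have hall : ∀ y, y ∈ R := fun y => hcR (htop ▸ Subgroup.mem_top y)
      obtain ⟨P, -, hPN, hPiff, hsplit⟩ := sum_stab σ R (fun y _ => hall _)
        (fun h => hQK (by
          obtain ⟨t, ht⟩ := Subgroup.card_subgroup_dvd_card R
          rw [ht, Nat.cast_mul, h, zero_mul])) ψ lam hq.out.pos hσ s hcompat
      obtain ⟨v, hv, hv0⟩ := Submodule.exists_mem_ne_zero_of_ne_bot hne'
      rcases hord hPN with hP1 | hPq
      · have h1 : lam ⟨σ x₁, hall _⟩ = lam ⟨x₁, hall _⟩ := by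
          have h := (hPiff 1).1 (by rw [hP1]) ⟨x₁, hall _⟩ (hall _)
          simpa only [pow_one] using h
        apply hz (hall _)
        have h2 : lam ⟨x₁, hall _⟩ * lam ⟨x₁⁻¹ * σ x₁, hall _⟩ = lam ⟨x₁, hall _⟩ := by
          rw [← map_mul]
          conv_rhs => rw [← h1]
          exact congrArg lam (Subtype.ext (mul_inv_cancel_left _ _))
        have hne0 : lam ⟨x₁, hall _⟩ ≠ 0 := fun h => by
          have h3 : lam (⟨x₁, hall _⟩ * ⟨x₁, hall _⟩⁻¹) = 1 := by rw [mul_inv_cancel, map_one]
          rw [map_mul, h, zero_mul] at h3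
          exact zero_ne_one h3
        exact mul_left_cancel₀ hne0 (h2.trans (mul_one _).symm)
      · have h := hsplit v hv (by rw [hT, LinearMap.zero_apply])
        rw [hPq, Nat.div_self hq.out.pos, Finset.sum_range_one, pow_zero,
          Module.End.one_apply] at h
        exact hv0 h
    · push Not at habel
      obtain ⟨a, c, hac⟩ := habel
      have hz₀ : a * c * a⁻¹ * c⁻¹ ∈ Subgroup.center Q := commutator_mem' hcent a c
      have hz₀1 : a * c * a⁻¹ * c⁻¹ ≠ 1 := fun h => hac (by
        rwa [mul_inv_eq_one, mul_inv_eq_iff_eq_mul] at h)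
      obtain ⟨R, lam, hRn, hcR, hiff, hz, hinv, hne', -⟩ :=
        exists_scalar_data hQK hcent ψ hψ hz₀ hz₀1
      haveI := hRn
      have hRne : R ≠ ⊤ := fun h =>
        hz (hcR hz₀) ((hiff a).1 (h ▸ Subgroup.mem_top a) c (hcR hz₀))
      obtain ⟨P, -, hPN, hRP, hMP, -, hsumM⟩ :=
        exists_stab hQK hcent σ ψ R lam hcR hiff hq.out.pos hσ s hcompat hT
      obtain ⟨v, hv, hv0⟩ := Submodule.exists_mem_ne_zero_of_ne_bot hne'
      rcases hord hPN with hP1 | hPq
      swap
      · have h := hsumM v hv
        rw [hPq, Nat.div_self hq.out.pos, Finset.sum_range_one, pow_zero,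
          Module.End.one_apply] at h
        exact hv0 h
      subst hP1
      simp only [pow_one, Nat.div_one] at hRP hMP hsumM
      set M := charSpace ψ lam with hM
      haveI : Nontrivial M := Submodule.nontrivial_iff_ne_bot.2 hne'
      let ψM : Q →* Module.End K M :=
        { toFun := fun x => (ψ x).restrict (hinv x)
          map_one' := LinearMap.ext fun v => Subtype.ext (by simp)
          map_mul' := fun x y => LinearMap.ext fun v => Subtype.ext (by simp [Module.End.mul_apply]) }
      let sM : Module.End K M := s.restrict hMP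
      have hsMpow : ∀ (i : ℕ) (v : M), ((sM ^ i) v : V) = (s ^ i) v := by
        intro i
        induction i with
        | zero => intro v; simp
        | succ i ih' =>
          intro v
          rw [pow_succ', Module.End.mul_apply, pow_succ' s, Module.End.mul_apply, ← ih']
          rfl
      have hfpf : ∀ i ∈ Finset.Ico 1 q, ∀ x, x⁻¹ * (σ ^ i) x ∈ R → x ∈ R := by
        intro i hi x hx
        rw [Finset.mem_Ico] at hi
        apply hstep R hRn hRP (hcent.trans hcR)
        have hRpow : ∀ (k : ℕ), ∀ z ∈ R, (σ ^ k) z ∈ R := by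
          intro k z hz
          induction k with
          | zero => simpa using hz
          | succ k ih' => rw [pow_succ', MulAut.mul_apply]; exact hRP _ ih'
        have hj : ∀ j : ℕ, x⁻¹ * (σ ^ (i * j)) x ∈ R := by
          intro j
          induction j with
          | zero => simp
          | succ j ih' =>
            have h1 := mul_mem hx (hRpow i _ ih')
            rw [map_mul, map_inv, ← mul_assoc, mul_inv_cancel_right, ← MulAut.mul_apply, ← pow_add,
              show i + i * j = i * (j + 1) by ring] at h1
            exact h1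
        obtain ⟨j, hj1⟩ := exists_pow_pow_eq hq.out hσ hi.1 hi.2
        have h2 := hj j
        rwa [pow_mul, hj1] at h2
      obtain ⟨⟨d, hdq, hd⟩, -⟩ := monomial_exception (V := M) R hQK lam ψM
        (fun z => LinearMap.ext fun v => Subtype.ext (by
          show ψ z (v : V) = lam z • (v : V)
          exact v.2 z))
        (hcent.trans hcR)
        (fun x hx => by
          by_contra! h
          exact hx ((hiff x).2 fun y hy => h y hy))
        hRne σ hRP hqK sM
        (LinearMap.ext fun v => Subtype.ext (by
          rw [hsMpow, hs, Module.End.one_apply, Module.End.one_apply]))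
        (fun x => LinearMap.ext fun v => Subtype.ext (by
          show s (ψ x (v : V)) = ψ (σ x) (s (v : V))
          rw [← Module.End.mul_apply, hcompat, Module.End.mul_apply]))
        (LinearMap.ext fun v => Subtype.ext (by
          rw [LinearMap.sum_apply, LinearMap.zero_apply, AddSubmonoidClass.coe_finsetSum,
            ZeroMemClass.coe_zero, Finset.sum_congr rfl fun i _ => hsMpow i v]
          have h := hsumM v v.2
          rwa [LinearMap.sum_apply] at h))
        hfpf
      -- `d + 1 = q` with `d` a power of `p`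
      haveI : Nontrivial (Q ⧸ R) := QuotientGroup.nontrivial_iff.2 hRne
      have hd1 : 1 < d ^ 2 := hd ▸ Finite.one_lt_card
      obtain ⟨e, he⟩ := IsPGroup.iff_card.1 (hQ.to_quotient R)
      rw [hd] at he
      have hdodd : Odd d := by
        have h1 : Odd (d ^ 2) := he ▸ (hp.out.odd_of_ne_two hp2).pow
        exact (Nat.odd_pow_iff two_ne_zero).1 h1
      have hq2 : q = 2 := by
        rcases hq.out.eq_two_or_odd' with h | h
        · exact h
        · rw [← hdq] at h
          obtain ⟨k, hk⟩ := hdodd
          obtain ⟨l, hl⟩ := h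
          omega
      have : d = 1 := by omega
      rw [this] at hd1
      exact absurd hd1 (by norm_num)

/-- An element of prime order without fixed points on a faithful module centralises every
`p`-subgroup it normalises, for `p` odd and coprime to both. -/
theorem centralises_pGroup {G : Type w} [Group G] [Finite G] {W : Type u} [CommGroup W] [Finite W]
    {p q r : ℕ} (hp : p.Prime) (hq : q.Prime) (hr : r.Prime) (hp2 : p ≠ 2) (hpq : p ≠ q)
    (hpr : p ≠ r) (hqr : q ≠ r) {ρ : G →* MulAut W} (hW : ∀ w : W, w ^ r = 1)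
    (hρ : Function.Injective ρ) {y : G} (hy : y ^ q = 1) (hfpf : Fpf ρ y) (N : Subgroup G)
    (hN : IsPGroup p N) (hnorm : ∀ x ∈ N, y * x * y⁻¹ ∈ N) : ∀ x ∈ N, y * x = x * y := by
  haveI := Fact.mk hp
  haveI := Fact.mk hq
  haveI := Fact.mk hr
  obtain ⟨m, Φ, hΦ, hΦsum⟩ := exists_operators (r := r) W hW
  let σN : MulAut N := MulEquiv.ofBijective
    ({ toFun := fun x => ⟨y * x * y⁻¹, hnorm _ x.2⟩
       map_one' := Subtype.ext (by simp)
       map_mul' := fun a b => Subtype.ext (by
        show y * ((a : G) * b) * y⁻¹ = y * a * y⁻¹ * (y * b * y⁻¹)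
        group) } : N →* N)
    (Finite.injective_iff_bijective.1 fun a b h => Subtype.ext
      (mul_left_cancel (mul_right_cancel (congrArg Subtype.val h : y * (a : G) * y⁻¹ = _))))
  have hσpow : ∀ (i : ℕ) (x : N), (((σN ^ i) x : N) : G) = y ^ i * x * (y ^ i)⁻¹ := by
    intro i
    induction i with
    | zero => intro x; simp
    | succ i ih =>
      intro x
      rw [pow_succ', MulAut.mul_apply]
      show y * (((σN ^ i) x : N) : G) * y⁻¹ = _
      rw [ih, pow_succ' y]
      group
  have hK : ∀ n : ℕ, ¬ r ∣ n → (n : AlgebraicClosure (ZMod r)) ≠ 0 := fun n hn h => hn (by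
    haveI : CharP (AlgebraicClosure (ZMod r)) r :=
      charP_of_injective_algebraMap (algebraMap (ZMod r) (AlgebraicClosure (ZMod r))).injective r
    exact (CharP.cast_eq_zero_iff (AlgebraicClosure (ZMod r)) r n).1 h)
  have key := aut_eq_one_of_vanishing (p := p) (q := q) hp2 hpq
    (hK p fun h => hpr ((Nat.prime_dvd_prime_iff_eq hr hp).1 h).symm)
    (hK q fun h => hqr ((Nat.prime_dvd_prime_iff_eq hr hq).1 h).symm)
    (Nat.card N) le_rfl hN σN
    (MulEquiv.ext fun x => Subtype.ext (by
      rw [hσpow, hy, one_mul, inv_one, mul_one, MulAut.one_apply]))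
    ((Φ.comp ρ).comp N.subtype) ((hΦ.comp hρ).comp N.subtype_injective) (Φ (ρ y))
    (by rw [← map_pow, ← map_pow, hy, map_one, map_one])
    (fun x => by
      show Φ (ρ y) * Φ (ρ (x : G)) = Φ (ρ (y * x * y⁻¹)) * Φ (ρ y)
      rw [← map_mul, ← map_mul, ← map_mul, ← map_mul, inv_mul_cancel_right])
    (hΦsum (ρ y) q fun w => by
      rw [Finset.prod_congr rfl fun i _ => by rw [← map_pow]]
      exact prod_pow_eq_one hy hfpf w)
  intro x hx
  exact mul_inv_eq_iff_eq_mul.1 (congrArg Subtype.val (key ⟨x, hx⟩) : y * x * y⁻¹ = x)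

end CfsgLib.TripleFree
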