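import Mathlib
import Cfsg.Prelude.Def_Solvable
import Cfsg.Prelude.Def_CaseTheorems
import Cfsg.Agent.Solvable.Fitting
import Cfsg.Agent.Solvable.Hall
import Cfsg.Agent.ShultGross.Module
import Cfsg.Agent.TripleFree.Fpf

/-!
Groups in which no element order is divisible by three of the given primes: the basic tools.
-/

set_option autoImplicit false
set_option linter.style.haveILetI false

open scoped IsMulCommutative

namespace CfsgLib.TripleFree

universe u v

variable {G : Type u} [Group G]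

/-- No element order is divisible by the product of three distinct members of `π`. -/
def NoTriple (G : Type u) [Group G] (π : Finset ℕ) : Prop :=
  ∀ a ∈ π, ∀ b ∈ π, ∀ c ∈ π, a ≠ b → b ≠ c → a ≠ c → ∀ g : G, ¬ a * b * c ∣ orderOf g

theorem NoTriple.subgroup {π : Finset ℕ} (h : NoTriple G π) (L : Subgroup G) : NoTriple L π :=
  fun a ha b hb c hc hab hbc hac g hg =>
    h a ha b hb c hc hab hbc hac (g : G) (by rwa [Subgroup.orderOf_coe])

theorem exists_pow_orderOf [Finite G] {g : G} {n : ℕ} (h : n ∣ orderOf g) :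
    ∃ k : ℕ, orderOf (g ^ k) = n :=
  ⟨_, orderOf_pow_orderOf_div (orderOf_pos g).ne' h⟩

theorem orderOf_mul_of_primes {x y : G} (hxy : Commute x y) {a b : ℕ} (ha : a.Prime) (hb : b.Prime)
    (hab : a ≠ b) (hx : orderOf x = a) (hy : orderOf y = b) : orderOf (x * y) = a * b := by
  rw [hxy.orderOf_mul_eq_mul_orderOf_of_coprime (by
    rw [hx, hy]; exact (Nat.coprime_primes ha hb).2 hab), hx, hy]

theorem NoTriple.false {π : Finset ℕ} (h : NoTriple G π) (hπ : ∀ a ∈ π, a.Prime) {a b c : ℕ}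
    (ha : a ∈ π) (hb : b ∈ π) (hc : c ∈ π) (hab : a ≠ b) (hbc : b ≠ c) (hac : a ≠ c) {x y z : G}
    (hx : orderOf x = a) (hy : orderOf y = b) (hz : orderOf z = c) (hxy : Commute x y)
    (hxz : Commute x z) (hyz : Commute y z) : False := by
  refine h a ha b hb c hc hab hbc hac (x * y * z) (dvd_of_eq ?_)
  rw [(hxz.mul_left hyz).orderOf_mul_eq_mul_orderOf_of_coprime, orderOf_mul_of_primes hxy
    (hπ a ha) (hπ b hb) hab hx hy, hz]
  rw [orderOf_mul_of_primes hxy (hπ a ha) (hπ b hb) hab hx hy, hz]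
  exact Nat.Coprime.mul_left ((Nat.coprime_primes (hπ a ha) (hπ c hc)).2 hac)
    ((Nat.coprime_primes (hπ b hb) (hπ c hc)).2 hbc)

theorem fixed_conj_iff {M : Subgroup G} [M.Normal] {g : G} {m : M} :
    MulAut.conjNormal g m = m ↔ Commute g (m : G) := by
  rw [Subtype.ext_iff]
  show g * (m : G) * g⁻¹ = m ↔ _
  exact mul_inv_eq_iff_eq_mul

/-- A nontrivial elementary abelian normal subgroup. -/
structure ElemNormal (p : ℕ) (M : Subgroup G) : Prop where
  normal : M.Normal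
  comm : IsMulCommutative M
  pow_eq : ∀ x ∈ M, x ^ p = 1
  ne_bot : M ≠ ⊥

theorem ElemNormal.mul_comm {p : ℕ} {M : Subgroup G} (h : ElemNormal p M) :
    ∀ a ∈ M, ∀ b ∈ M, a * b = b * a := fun a ha b hb =>
  haveI := h.comm
  congrArg Subtype.val (mul_comm' (⟨a, ha⟩ : M) ⟨b, hb⟩)

theorem ElemNormal.pow_sub {p : ℕ} {M : Subgroup G} (h : ElemNormal p M) (m : M) : m ^ p = 1 :=
  Subtype.ext (by simpa using h.pow_eq m m.2)

theorem ElemNormal.exists_ne {p : ℕ} (hp : p.Prime) {M : Subgroup G} (h : ElemNormal p M) :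
    ∃ m ∈ M, m ≠ 1 ∧ orderOf m = p := by
  obtain ⟨m, hm, hm1⟩ := (Subgroup.ne_bot_iff_exists_ne_one (H := M)).1 h.ne_bot |>.imp
    (fun m hm => And.intro m.2 (fun e => hm (Subtype.ext e)))
  exact ⟨m, hm, hm1, haveI := Fact.mk hp; orderOf_eq_prime (h.pow_eq _ hm) hm1⟩

theorem ElemNormal.orderOf_eq {p : ℕ} (hp : p.Prime) {M : Subgroup G} (h : ElemNormal p M) {m : G}
    (hm : m ∈ M) (hm1 : m ≠ 1) : orderOf m = p :=
  haveI := Fact.mk hp; orderOf_eq_prime (h.pow_eq m hm) hm1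

theorem ElemNormal.nontrivial {p : ℕ} {M : Subgroup G} (h : ElemNormal p M) : Nontrivial M :=
  (Subgroup.nontrivial_iff_ne_bot M).2 h.ne_bot

variable [Finite G]

theorem exists_minimal_elem [Nontrivial G] (hsolv : Group.IsSolvable G) :
    ∃ (M : Subgroup G) (r : ℕ), r.Prime ∧ ElemNormal r M ∧ r ∣ Nat.card M := by
  obtain ⟨M, r, hr, hn, -, hb, hc, he, hd, -⟩ :=
    CfsgLib.ShultGross.exists_minimal_invariant hsolv (1 : MulAut G)
  exact ⟨M, r, hr, ⟨hn, ⟨⟨fun x y => Subtype.ext (hc x x.2 y y.2)⟩⟩, he, hb⟩, hd⟩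

theorem exists_elem_le_pCore (hsolv : Group.IsSolvable G) {p : ℕ} (hp : p.Prime)
    (h : Cfsg.pCore p G ≠ ⊥) : ∃ M : Subgroup G, M ≤ Cfsg.pCore p G ∧ ElemNormal p M := by
  haveI := hsolv
  obtain ⟨M, hMn, hMne, hMle, hmin⟩ :=
    CfsgLib.Solvable.exists_minimal_normal_le (CfsgLib.Solvable.pCore_normal p) h
  haveI := hMn
  obtain ⟨r, hr, he⟩ := CfsgLib.Solvable.exists_prime_pow_eq_one_of_minimal_normal hMne hmin
  haveI := Fact.mk hp
  obtain ⟨x, hxM, hx1⟩ : ∃ x ∈ M, x ≠ 1 := by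
    by_contra! hc
    exact hMne ((Subgroup.eq_bot_iff_forall _).2 hc)
  obtain ⟨k, hk⟩ := (CfsgLib.Solvable.isPGroup_pCore (G := G) p) ⟨x, hMle hxM⟩
  have hxk : x ^ p ^ k = 1 := congrArg Subtype.val hk
  have hrp : r = p := by
    by_contra hne
    refine hx1 (orderOf_eq_one_iff.1 (Nat.eq_one_of_dvd_coprimes ?_
      (orderOf_dvd_of_pow_eq_one (he x hxM)) (orderOf_dvd_of_pow_eq_one hxk)))
    exact Nat.Coprime.pow_right _ ((Nat.coprime_primes hr hp).2 hne)
  subst hrp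
  exact ⟨M, hMle, hMn, CfsgLib.Solvable.isMulCommutative_of_minimal_normal hMne hmin, he, hMne⟩

theorem commute_of_pCores {p q : ℕ} (hp : p.Prime) (hq : q.Prime) (hpq : p ≠ q) {x y : G}
    (hx : x ∈ Cfsg.pCore p G) (hy : y ∈ Cfsg.pCore q G) : Commute x y :=
  haveI := Fact.mk hp
  haveI := Fact.mk hq
  Subgroup.commute_of_normal_of_disjoint _ _ (CfsgLib.Solvable.pCore_normal _)
    (CfsgLib.Solvable.pCore_normal _) (IsPGroup.disjoint_of_ne _ _ hpq _ _
      (CfsgLib.Solvable.isPGroup_pCore _) (CfsgLib.Solvable.isPGroup_pCore _)) x y hx hy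

theorem coprime_pCore {p q : ℕ} (hp : p.Prime) (hq : q.Prime) (hpq : p ≠ q) :
    (Nat.card (Cfsg.pCore p G)).Coprime q := by
  haveI := Fact.mk hp
  obtain ⟨n, hn⟩ := IsPGroup.iff_card.1 (CfsgLib.Solvable.isPGroup_pCore (G := G) p)
  rw [hn]
  exact Nat.Coprime.pow_left _ ((Nat.coprime_primes hp hq).2 hpq)

theorem orderOf_dvd_of_mem_pCore {p : ℕ} {x : G} (hx : x ∈ Cfsg.pCore p G) :
    ∃ k, orderOf x ∣ p ^ k := by
  obtain ⟨k, hk⟩ := (CfsgLib.Solvable.isPGroup_pCore (G := G) p) ⟨x, hx⟩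
  exact ⟨k, orderOf_dvd_of_pow_eq_one (congrArg Subtype.val hk : x ^ p ^ k = 1)⟩

theorem not_orderOf_mem_sup {p q r : ℕ} (hp : p.Prime) (hq : q.Prime) (hr : r.Prime)
    (hrp : r ≠ p) (hrq : r ≠ q) {g : G} (hg : orderOf g = r) :
    g ∉ Cfsg.pCore p G ⊔ Cfsg.pCore q G := by
  intro h
  rcases eq_or_ne p q with rfl | hpq
  · rw [sup_idem] at h
    obtain ⟨k, hk⟩ := orderOf_dvd_of_mem_pCore h
    rw [hg] at hk
    exact hrp ((Nat.prime_dvd_prime_iff_eq hr hp).1 (hr.dvd_of_dvd_pow hk))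
  haveI := CfsgLib.Solvable.pCore_normal (G := G) q
  obtain ⟨a, ha, b, hb, rfl⟩ := Subgroup.mem_sup_of_normal_right.1 h
  obtain ⟨i, hi⟩ := orderOf_dvd_of_mem_pCore ha
  obtain ⟨j, hj⟩ := orderOf_dvd_of_mem_pCore hb
  have h1 : r ∣ p ^ i * q ^ j :=
    hg ▸ ((commute_of_pCores hp hq hpq ha hb).orderOf_mul_dvd_mul_orderOf).trans (mul_dvd_mul hi hj)
  rcases hr.dvd_mul.1 h1 with h2 | h2
  · exact hrp ((Nat.prime_dvd_prime_iff_eq hr hp).1 (hr.dvd_of_dvd_pow h2))
  · exact hrq ((Nat.prime_dvd_prime_iff_eq hr hq).1 (hr.dvd_of_dvd_pow h2))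

/-- The centraliser of the only two nontrivial cores lies in their join. -/
theorem mem_sup_of_centralises (hsolv : Group.IsSolvable G) {p q : ℕ}
    (hcores : ∀ r, r.Prime → r ≠ p → r ≠ q → Cfsg.pCore r G = ⊥) {g : G}
    (hgp : ∀ x ∈ Cfsg.pCore p G, Commute g x) (hgq : ∀ x ∈ Cfsg.pCore q G, Commute g x) :
    g ∈ Cfsg.pCore p G ⊔ Cfsg.pCore q G := by
  haveI := hsolv
  have hF : Cfsg.fittingSubgroup G ≤ Cfsg.pCore p G ⊔ Cfsg.pCore q G := by
    rw [CfsgLib.Solvable.fittingSubgroup_eq_iSup]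
    refine iSup_le fun r => ?_
    by_cases h1 : (r : ℕ) = p
    · rw [h1]; exact le_sup_left
    by_cases h2 : (r : ℕ) = q
    · rw [h2]; exact le_sup_right
    rw [hcores r r.2 h1 h2]; exact bot_le
  refine hF (CfsgLib.Solvable.centralizer_fittingSubgroup_le ?_)
  have h3 : Cfsg.pCore p G ⊔ Cfsg.pCore q G ≤ Subgroup.centralizer {g} :=
    sup_le (fun x hx => Subgroup.mem_centralizer_singleton_iff.2 (hgp x hx).eq.symm)
      (fun x hx => Subgroup.mem_centralizer_singleton_iff.2 (hgq x hx).eq.symm)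
  exact fun x hx => Subgroup.mem_centralizer_singleton_iff.1 (h3 (hF hx))

theorem exists_mem_hall (hsolv : Group.IsSolvable G) {π : Set ℕ} {H : Subgroup G}
    (hH : Cfsg.IsPiHall π H) {u : G} (hu : ∀ p : ℕ, p.Prime → p ∣ orderOf u → p ∈ π) :
    ∃ g : G, g * u * g⁻¹ ∈ H := by
  haveI := hsolv
  obtain ⟨g, hg⟩ := CfsgLib.Solvable.exists_conj_le_isPiHall hH
    (U := Subgroup.zpowers u) (fun p hp hd => hu p hp (by rwa [Nat.card_zpowers] at hd))
  exact ⟨g, hg (CfsgLib.Solvable.conj_mem_conj_smul (Subgroup.mem_zpowers u))⟩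

theorem exists_mem_hall_prime (hsolv : Group.IsSolvable G) {π : Set ℕ} {H : Subgroup G}
    (hH : Cfsg.IsPiHall π H) {u : G} {b : ℕ} (hb : b.Prime) (hbπ : b ∈ π) (hu : orderOf u = b) :
    ∃ v : H, orderOf v = b := by
  obtain ⟨g, hg⟩ := exists_mem_hall hsolv hH (u := u)
    fun p hp hd => (Nat.prime_dvd_prime_iff_eq hp hb).1 (hu ▸ hd) ▸ hbπ
  refine ⟨⟨g * u * g⁻¹, hg⟩, ?_⟩
  rw [Subgroup.orderOf_mk, ← hu]
  exact orderOf_injective (MulAut.conj g).toMonoidHom (MulAut.conj g).injective u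

section Module

variable {W : Type v} [CommGroup W] {ρ : G →* MulAut W}

/-- Two primes whose elements have no fixed points and do not commute cannot both occur. -/
theorem no_two_fpf (hsolv : Group.IsSolvable G) [Nontrivial W] {b d c : ℕ} (hb : b.Prime)
    (hd : d.Prime) (hbd : b ≠ d) (hc : c.Prime) (hbc : b ≠ c) (hdc : d ≠ c)
    (hW : ∀ w : W, w ^ c = 1) {u v : G} (hu : orderOf u = b) (hv : orderOf v = d)
    (hnc : ∀ x y : G, orderOf x = b → orderOf y = d → ¬ Commute x y)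
    (hfpf : ∀ x : G, orderOf x = b ∨ orderOf x = d → Fpf ρ x) : False := by
  haveI := hsolv
  obtain ⟨H, hH⟩ := CfsgLib.Solvable.exists_isPiHall ({b, d} : Set ℕ) G
  obtain ⟨u', hu'⟩ := exists_mem_hall_prime hsolv hH hb (by simp) hu
  obtain ⟨v', hv'⟩ := exists_mem_hall_prime hsolv hH hd (by simp) hv
  haveI : Nontrivial H := ⟨⟨u', 1, fun h => hb.one_lt.ne (by rw [← hu', h, orderOf_one])⟩⟩
  obtain ⟨M, r, hr, hM, hrM⟩ := exists_minimal_elem (G := H) inferInstance
  have key : ∀ {e : ℕ}, e.Prime → e ≠ r → r ≠ c → (∀ x : G, orderOf x = r → Fpf ρ x) →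
      (∀ y : G, orderOf y = e → Fpf ρ y) →
      (∀ x y : G, orderOf x = r → orderOf y = e → ¬ Commute x y) →
      ∀ y : H, orderOf y = e → False := by
    intro e he her hrc hfr hfe hnre y hy
    obtain ⟨m, hm, hm1, hmo⟩ := hM.exists_ne hr
    have hye : y ^ e = 1 := hy ▸ pow_orderOf_eq_one y
    have hcard : (Nat.card M).Coprime c := by
      haveI := Fact.mk hr
      obtain ⟨n, hn⟩ := IsPGroup.iff_card.1 (fun x : M => ⟨1, by
        rw [pow_one]; exact hM.pow_sub x⟩ : IsPGroup r M)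
      rw [hn]
      exact Nat.Coprime.pow_left _ ((Nat.coprime_primes hr hc).2 hrc)
    have htriv := trivial_of_fpf (ρ := ρ.comp H.subtype) hW M hye he.pos
      (fun x hx => hM.normal.conj_mem x hx y)
      (fun i h1 h2 x hx hcomm => by
        by_contra hx1
        obtain ⟨j, hj⟩ := exists_pow_pow_eq he hye h1 h2
        have hxy : Commute x y := hj ▸ hcomm.pow_right j
        exact hnre x y (by rw [Subgroup.orderOf_coe, hM.orderOf_eq hr hx hx1])
          (by rw [Subgroup.orderOf_coe, hy]) (hxy.map H.subtype))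
      hcard (fun w hw => hfe y (by rw [Subgroup.orderOf_coe, hy]) w hw) m hm
    obtain ⟨w, hw⟩ := exists_ne (1 : W)
    exact hw (hfr m (by rw [Subgroup.orderOf_coe, hmo]) w (htriv w))
  rcases hH.1 r hr (hrM.trans (Subgroup.card_subgroup_dvd_card M)) with h | h
  · subst h
    exact key hd hbd.symm hbc (fun x hx => hfpf x (Or.inl hx)) (fun x hx => hfpf x (Or.inr hx))
      hnc v' hv'
  · have h' : r = d := h
    subst h'
    exact key hb hbd hdc (fun x hx => hfpf x (Or.inr hx)) (fun x hx => hfpf x (Or.inl hx))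
      (fun x y hx hy hxy => hnc y x hy hx hxy.symm) u' hu'

/-- An element with a fixed point cannot commute with elements of two further orders, if no two
of the three commute with a common fixed point. -/
theorem not_both (hsolv : Group.IsSolvable G) {b d c : ℕ} (hb : b.Prime)
    (hd : d.Prime) (hbd : b ≠ d) (hc : c.Prime) (hbc : b ≠ c) (hdc : d ≠ c)
    (hW : ∀ w : W, w ^ c = 1) {g u v : G} (hg : ¬ Fpf ρ g) (hu : orderOf u = b)
    (hv : orderOf v = d) (hgu : Commute g u) (hgv : Commute g v)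
    (hnc : ∀ x y : G, orderOf x = b → orderOf y = d → Commute g x → Commute g y → ¬ Commute x y)
    (hfix : ∀ x : G, orderOf x = b ∨ orderOf x = d → Commute g x →
      ∀ w : W, ρ g w = w → ρ x w = w → w = 1) : False := by
  haveI := hsolv
  obtain ⟨w₀, hw₀, hw₀g⟩ := exists_fixed_of_not_fpf hg
  haveI : Nontrivial (fixSub ρ g) :=
    ⟨⟨⟨w₀, hw₀g⟩, 1, fun h => hw₀ (congrArg Subtype.val h)⟩⟩
  have hmem : ∀ {x : G}, Commute g x → x ∈ Subgroup.centralizer ({g} : Set G) :=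
    fun hx => Subgroup.mem_centralizer_singleton_iff.2 hx.symm.eq
  have hcom : ∀ x : Subgroup.centralizer ({g} : Set G), Commute g (x : G) :=
    fun x => (Commute.symm (Subgroup.mem_centralizer_singleton_iff.1 x.2))
  refine no_two_fpf (ρ := fixRep ρ g) inferInstance hb hd hbd hc hbc hdc
    (fun w => Subtype.ext (by simpa using hW w)) (u := ⟨u, hmem hgu⟩) (v := ⟨v, hmem hgv⟩)
    (by rw [Subgroup.orderOf_mk, hu]) (by rw [Subgroup.orderOf_mk, hv]) ?_ ?_
  · intro x y hx hy hxy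
    exact hnc x y (by rw [Subgroup.orderOf_coe, hx]) (by rw [Subgroup.orderOf_coe, hy]) (hcom x)
      (hcom y) (hxy.map (Subgroup.subtype _))
  · intro x hx w hw
    refine Subtype.ext (hfix x ?_ (hcom x) w w.2 ?_)
    · rwa [Subgroup.orderOf_coe]
    · exact congrArg Subtype.val hw

end Module

/-- A solvable group with elements of three prime orders has two commuting of different orders. -/
theorem three_primes (hsolv : Group.IsSolvable G) {π : Finset ℕ} (hπ : ∀ a ∈ π, a.Prime)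
    (hcard : π.card = 3) (hel : ∀ a ∈ π, ∃ x : G, orderOf x = a)
    (hnc : ∀ a ∈ π, ∀ b ∈ π, a ≠ b → ∀ x y : G, orderOf x = a → orderOf y = b → ¬ Commute x y) :
    False := by
  haveI := hsolv
  obtain ⟨a, b, c, hab, hac, hbc, rfl⟩ := Finset.card_eq_three.1 hcard
  obtain ⟨H, hH⟩ := CfsgLib.Solvable.exists_isPiHall (({a, b, c} : Finset ℕ) : Set ℕ) G
  have helH : ∀ e ∈ ({a, b, c} : Finset ℕ), ∃ x : H, orderOf x = e := fun e he => by
    obtain ⟨x, hx⟩ := hel e he
    exact exists_mem_hall_prime hsolv hH (hπ e he) (by exact_mod_cast he) hx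
  obtain ⟨xa, hxa⟩ := helH a (by simp)
  haveI : Nontrivial H :=
    ⟨⟨xa, 1, fun h => (hπ a (by simp)).one_lt.ne (by rw [← hxa, h, orderOf_one])⟩⟩
  obtain ⟨M, r, hr, hM, hrM⟩ := exists_minimal_elem (G := H) inferInstance
  have hrπ : r ∈ ({a, b, c} : Finset ℕ) := by
    exact_mod_cast hH.1 r hr (hrM.trans (Subgroup.card_subgroup_dvd_card M))
  obtain ⟨b', d', hb', hd', hne, hbr, hdr⟩ : ∃ b' d', b' ∈ ({a, b, c} : Finset ℕ) ∧
      d' ∈ ({a, b, c} : Finset ℕ) ∧ b' ≠ d' ∧ b' ≠ r ∧ d' ≠ r := by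
    simp only [Finset.mem_insert, Finset.mem_singleton] at hrπ
    rcases hrπ with h | h | h
    · exact ⟨b, c, by simp, by simp, hbc, h ▸ hab.symm, h ▸ hac.symm⟩
    · exact ⟨a, c, by simp, by simp, hac, h ▸ hab, h ▸ hbc.symm⟩
    · exact ⟨a, b, by simp, by simp, hab, h ▸ hac, h ▸ hbc⟩
  haveI := hM.normal
  haveI := hM.comm
  haveI := hM.nontrivial
  obtain ⟨u, hu⟩ := helH b' hb'
  obtain ⟨v, hv⟩ := helH d' hd'
  refine no_two_fpf (ρ := (MulAut.conjNormal : H →* MulAut M)) inferInstance (hπ b' hb') (hπ d' hd')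
    hne hr hbr hdr hM.pow_sub hu hv ?_ ?_
  · intro x y hx hy hxy
    exact hnc b' hb' d' hd' hne x y (by rw [Subgroup.orderOf_coe, hx])
      (by rw [Subgroup.orderOf_coe, hy]) (hxy.map H.subtype)
  · intro x hx m hm
    by_contra hm1
    have hmo : orderOf ((m : H) : G) = r := by
      rw [Subgroup.orderOf_coe, hM.orderOf_eq hr m.2 fun h => hm1 (Subtype.ext h)]
    have hxm : Commute (x : G) ((m : H) : G) := (fixed_conj_iff.1 hm).map H.subtype
    rcases hx with hx | hx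
    · exact hnc b' hb' r hrπ hbr x _ (by rw [Subgroup.orderOf_coe, hx]) hmo hxm
    · exact hnc d' hd' r hrπ hdr x _ (by rw [Subgroup.orderOf_coe, hx]) hmo hxm

/-- Either the elements of order `r` are conjugate into one cyclic group, or each of them has an
independent commuting partner. -/
theorem exists_partner {r : ℕ} (hr : r.Prime) {z : G} (hz : orderOf z = r) :
    (∀ x : G, orderOf x = r → ∃ g : G, g * x * g⁻¹ ∈ Subgroup.zpowers z) ∨
      ∃ t : G, orderOf t = r ∧ Commute z t ∧ t ∉ Subgroup.zpowers z := by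
  haveI := Fact.mk hr
  obtain ⟨R, hR⟩ := (IsPGroup.of_card (n := 1)
    (by rw [Nat.card_zpowers, hz, pow_one]) : IsPGroup r (Subgroup.zpowers z)).exists_le_sylow
  have hzR : z ∈ (R : Subgroup G) := hR (Subgroup.mem_zpowers z)
  haveI : Nontrivial (R : Subgroup G) :=
    ⟨⟨⟨z, hzR⟩, 1, fun h => hr.one_lt.ne (by
      rw [← hz, show z = 1 from congrArg Subtype.val h, orderOf_one])⟩⟩
  haveI := R.isPGroup'.center_nontrivial
  obtain ⟨n, hn⟩ := IsPGroup.iff_card.1 (R.isPGroup'.to_subgroup (Subgroup.center (R : Subgroup G)))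
  have hn0 : n ≠ 0 := by
    intro h0
    rw [h0, pow_zero] at hn
    exact absurd (Finite.one_lt_card (α := Subgroup.center (R : Subgroup G))) (by rw [hn]; omega)
  obtain ⟨z₀, hz₀⟩ := exists_prime_orderOf_dvd_card' (G := Subgroup.center (R : Subgroup G)) r
    (hn ▸ dvd_pow_self r hn0)
  have hz₀' : orderOf ((z₀ : (R : Subgroup G)) : G) = r := by
    rw [Subgroup.orderOf_coe, Subgroup.orderOf_coe, hz₀]
  have hcomm : ∀ x ∈ (R : Subgroup G), Commute x ((z₀ : (R : Subgroup G)) : G) := fun x hx =>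
    congrArg Subtype.val (Subgroup.mem_center_iff.1 z₀.2 ⟨x, hx⟩)
  by_cases hmem : ((z₀ : (R : Subgroup G)) : G) ∈ Subgroup.zpowers z
  swap
  · exact Or.inr ⟨_, hz₀', hcomm z hzR, hmem⟩
  by_cases hall : ∀ t ∈ (R : Subgroup G), orderOf t = r → t ∈ Subgroup.zpowers z
  · refine Or.inl fun x hx => ?_
    obtain ⟨S, hS⟩ := (IsPGroup.of_card (n := 1)
      (by rw [Nat.card_zpowers, hx, pow_one]) : IsPGroup r (Subgroup.zpowers x)).exists_le_sylow
    obtain ⟨g, hg⟩ := MulAction.exists_smul_eq G S R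
    refine ⟨g, hall _ ?_ (by
      rw [← hx]; exact orderOf_injective (MulAut.conj g).toMonoidHom (MulAut.conj g).injective x)⟩
    rw [← hg, Sylow.coe_subgroup_smul]
    exact CfsgLib.Solvable.conj_mem_conj_smul (hS (Subgroup.mem_zpowers x))
  · push Not at hall
    obtain ⟨t, htR, hto, htz⟩ := hall
    refine Or.inr ⟨t, hto, ?_, htz⟩
    have he : Subgroup.zpowers ((z₀ : (R : Subgroup G)) : G) = Subgroup.zpowers z :=
      Subgroup.eq_of_le_of_card_ge (Subgroup.zpowers_le.2 hmem)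
        (by rw [Nat.card_zpowers, Nat.card_zpowers, hz, hz₀'])
    obtain ⟨k, hk⟩ := Subgroup.mem_zpowers_iff.1 (he.ge (Subgroup.mem_zpowers z))
    rw [← hk]
    exact ((hcomm t htR).zpow_right k).symm

end CfsgLib.TripleFree
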