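import Mathlib
import Cfsg.Agent.Solvable.FixedPointFree
import Cfsg.Agent.TripleFree.Basic

/-!
Groups in which no element order is divisible by three of the given primes: tools on elementary
abelian normal subgroups and on subgroups of prime order.
-/

set_option autoImplicit false
set_option linter.style.haveILetI false
set_option linter.unusedSectionVars false

open scoped IsMulCommutative

namespace CfsgLib.TripleFree

universe u v

variable {G : Type u} [Group G]

theorem commute_of_mem_closure_pair {g a b x : G} (ha : Commute g a) (hb : Commute g b)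
    (hx : x ∈ Subgroup.closure {a, b}) : Commute g x := by
  have h : Subgroup.closure {a, b} ≤ Subgroup.centralizer {g} := by
    rw [Subgroup.closure_le]
    intro y hy
    simp only [Set.mem_insert_iff, Set.mem_singleton_iff] at hy
    rcases hy with rfl | rfl
    · exact Subgroup.mem_centralizer_singleton_iff.2 ha.eq.symm
    · exact Subgroup.mem_centralizer_singleton_iff.2 hb.eq.symm
  exact (Commute.symm (Subgroup.mem_centralizer_singleton_iff.1 (h hx)))

theorem mem_zpowers_of_eq {g h : G} {p : ℕ} (hp : p.Prime) (hg : orderOf g = p) (hh : orderOf h = p)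
    (hmem : g ∈ Subgroup.zpowers h) : h ∈ Subgroup.zpowers g := by
  haveI : Finite (Subgroup.zpowers h) :=
    Nat.finite_of_card_ne_zero (by rw [Nat.card_zpowers, hh]; exact hp.ne_zero)
  exact (Subgroup.eq_of_le_of_card_ge (Subgroup.zpowers_le.2 hmem)
    (by rw [Nat.card_zpowers, Nat.card_zpowers, hg, hh])).ge (Subgroup.mem_zpowers h)

theorem commute_of_mem_zpowers {g h x : G} (hh : Commute x h) (hg : g ∈ Subgroup.zpowers h) :
    Commute x g := by
  obtain ⟨k, rfl⟩ := Subgroup.mem_zpowers_iff.1 hg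
  exact hh.zpow_right k

variable [Finite G]

section Module

variable {W : Type v} [CommGroup W] {ρ : G →* MulAut W}

/-- Commuting elements of prime order acting semiregularly on the fixed points of an element
generate a cyclic group. -/
theorem mem_zpowers_of_semiregular {r s : ℕ} (hr : r.Prime) (hW : ∀ w : W, w ^ s = 1)
    (hrs : r.Coprime s) {g : G} (hg : ¬ Fpf ρ g) {a b : G} (hga : Commute g a) (hgb : Commute g b)
    (hab : Commute a b) (ha : a ^ r = 1) (hb : b ^ r = 1) (hb1 : b ≠ 1)
    (hsemi : ∀ x ∈ Subgroup.closure {a, b}, x ≠ 1 → x ^ r = 1 →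
      ∀ w, ρ g w = w → ρ x w = w → w = 1) :
    a ∈ Subgroup.zpowers b := by
  by_contra hna
  obtain ⟨w₀, hw₀, hw₀g⟩ := exists_fixed_of_not_fpf hg
  haveI : Nontrivial (fixSub ρ g) :=
    ⟨⟨⟨w₀, hw₀g⟩, 1, fun h => hw₀ (congrArg Subtype.val h)⟩⟩
  have hmem : ∀ {x : G}, Commute g x → x ∈ Subgroup.centralizer ({g} : Set G) :=
    fun hx => Subgroup.mem_centralizer_singleton_iff.2 hx.symm.eq
  obtain ⟨x, hx, hx1, hxr, w, hw1, hw⟩ := exists_fixed_of_commute (ρ := fixRep ρ g) hr
    (fun w => Subtype.ext (by simpa using hW w)) hrs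
    (a := ⟨a, hmem hga⟩) (b := ⟨b, hmem hgb⟩) (Subtype.ext hab) (Subtype.ext (by simpa using ha))
    (Subtype.ext (by simpa using hb)) (fun h => hb1 (congrArg Subtype.val h))
    (fun h => hna (by
      obtain ⟨k, hk⟩ := Subgroup.mem_zpowers_iff.1 h
      exact Subgroup.mem_zpowers_iff.2 ⟨k, by simpa using congrArg Subtype.val hk⟩))
  have hx' : (x : G) ∈ Subgroup.closure {a, b} := by
    refine (show Subgroup.closure _ ≤ (Subgroup.closure {a, b}).comap
      (Subgroup.centralizer ({g} : Set G)).subtype from (Subgroup.closure_le _).2 ?_) hx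
    intro y hy
    simp only [Set.mem_insert_iff, Set.mem_singleton_iff] at hy
    rcases hy with rfl | rfl
    · exact Subgroup.subset_closure (by simp)
    · exact Subgroup.subset_closure (by simp)
  exact hw1 (Subtype.ext (hsemi x hx' (fun h => hx1 (Subtype.ext h))
    (by simpa using congrArg Subtype.val hxr) w w.2 (congrArg Subtype.val hw)))

end Module

/-- Two independent commuting elements of prime order: a product centralises some element of a
given elementary abelian normal subgroup of coprime exponent. -/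
theorem exists_commute_elem {r p : ℕ} (hr : r.Prime) (hp : p.Prime) (hrp : r ≠ p) {M : Subgroup G}
    (hM : ElemNormal p M) {z t : G} (hz : orderOf z = r) (ht : orderOf t = r) (hzt : Commute z t)
    (hind : t ∉ Subgroup.zpowers z) :
    ∃ e ∈ Subgroup.closure {t, z}, orderOf e = r ∧ ∃ m ∈ M, m ≠ 1 ∧ Commute e m := by
  haveI := hM.normal
  haveI := hM.comm
  haveI := hM.nontrivial
  haveI := Fact.mk hr
  obtain ⟨e, he, he1, her, w, hw1, hw⟩ := exists_fixed_of_commute
    (ρ := (MulAut.conjNormal : G →* MulAut M)) hr hM.pow_sub ((Nat.coprime_primes hr hp).2 hrp)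
    hzt.symm (ht ▸ pow_orderOf_eq_one t) (hz ▸ pow_orderOf_eq_one z)
    (fun h => hr.one_lt.ne (by rw [← hz, h, orderOf_one])) hind
  exact ⟨e, he, orderOf_eq_prime her he1, w, w.2, fun h => hw1 (Subtype.ext h), fixed_conj_iff.1 hw⟩

/-- An element centralising a nontrivial element of an elementary subgroup contained in a cyclic
one centralises all of it. -/
theorem commute_all_of_cyclic {M : Subgroup G}
    {m : G} (hm : m ∈ M) (hm1 : m ≠ 1) (hcyc : ∀ a ∈ M, ∀ b ∈ M, b ≠ 1 → a ∈ Subgroup.zpowers b)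
    {x : G} (hx : Commute x m) : ∀ a ∈ M, Commute x a :=
  fun a ha => commute_of_mem_zpowers hx (hcyc a ha m hm hm1)

theorem ElemNormal.card_eq {p : ℕ} (hp : p.Prime) {M : Subgroup G} (hM : ElemNormal p M)
    {m : G} (hm : m ∈ M) (hm1 : m ≠ 1) (hcyc : ∀ a ∈ M, ∀ b ∈ M, b ≠ 1 → a ∈ Subgroup.zpowers b) :
    Nat.card M = p := by
  rw [le_antisymm (fun a ha => hcyc a ha m hm hm1) (Subgroup.zpowers_le.2 hm), Nat.card_zpowers,
    hM.orderOf_eq hp hm hm1]

/-- An element of prime-power order acts trivially on a normal subgroup of prime order not above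
that prime. -/
theorem commute_of_normal_prime {Z : Subgroup G} [Z.Normal] {r q : ℕ} (hr : r.Prime) (hq : q.Prime)
    (hZ : Nat.card Z = r) (hrq : r ≤ q) {x : G} {k : ℕ} (hx : x ^ q ^ k = 1) :
    ∀ z ∈ Z, Commute x z := by
  haveI := Fact.mk hr
  haveI : IsCyclic Z := isCyclic_of_prime_card hZ
  have h1 : orderOf (MulAut.conjNormal x : MulAut Z) ∣ q ^ k :=
    orderOf_dvd_of_pow_eq_one (by rw [← map_pow, hx, map_one])
  have h2 : orderOf (MulAut.conjNormal x : MulAut Z) ∣ r - 1 := by
    have := orderOf_dvd_natCard (MulAut.conjNormal x : MulAut Z)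
    rwa [IsCyclic.card_mulAut, hZ, Nat.totient_prime hr] at this
  have h3 : (q ^ k).Coprime (r - 1) :=
    Nat.Coprime.pow_left _ (hq.coprime_iff_not_dvd.2 fun h => by
      have := Nat.le_of_dvd (by have := hr.two_le; omega) h
      have := hr.two_le
      omega)
  have h4 := orderOf_eq_one_iff.1 (Nat.eq_one_of_dvd_coprimes h3 h1 h2)
  intro z hz
  exact fixed_conj_iff.1 (DFunLike.congr_fun h4 (⟨z, hz⟩ : Z))

/-- An element of order `r` not centralising a normal subgroup of order `q` forces `r ∣ q - 1`. -/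
theorem dvd_pred_of_not_commute {N : Subgroup G} [N.Normal] {q r : ℕ} (hq : q.Prime) (hr : r.Prime)
    (hN : Nat.card N = q) {e n : G} (he : orderOf e = r) (hn : n ∈ N) (hne : ¬ Commute e n) :
    r ∣ q - 1 := by
  haveI := Fact.mk hr
  haveI := Fact.mk hq
  have := CfsgLib.Solvable.card_dvd_card_pred_of_fpf (K := N) (H := Subgroup.zpowers e) ?_
  · rwa [Nat.card_zpowers, he, hN] at this
  intro h hh hh1
  rw [Subgroup.eq_bot_iff_forall]
  rintro a ⟨ha, hac⟩
  by_contra ha1
  apply hne
  have hh' : orderOf h = r := by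
    refine orderOf_eq_prime ?_ hh1
    obtain ⟨k, rfl⟩ := Subgroup.mem_zpowers_iff.1 hh
    rw [← zpow_natCast, ← zpow_mul, mul_comm, zpow_mul, zpow_natCast, ← he, pow_orderOf_eq_one,
      one_zpow]
  have hea : Commute e a :=
    ((commute_of_mem_zpowers (x := a) (Subgroup.mem_centralizer_singleton_iff.1 hac)
      (mem_zpowers_of_eq hr hh' he hh))).symm
  have ha' : orderOf a = q := by
    rcases (Nat.dvd_prime hq).1 (hN ▸ (Subgroup.orderOf_mk a ha).symm ▸
      orderOf_dvd_natCard (⟨a, ha⟩ : N)) with h | h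
    · exact absurd (orderOf_eq_one_iff.1 h) ha1
    · exact h
  have hNa : Subgroup.zpowers a = N :=
    Subgroup.eq_of_le_of_card_ge (Subgroup.zpowers_le.2 ha) (by rw [Nat.card_zpowers, ha', hN])
  exact commute_of_mem_zpowers hea (hNa ▸ hn)

/-- A subgroup is a `q`-group if it has no elements of other prime order. -/
theorem isPGroup_of_orders {q : ℕ} {C : Subgroup G}
    (h : ∀ x ∈ C, ∀ l : ℕ, l.Prime → orderOf x = l → l = q) : IsPGroup q C := by
  refine IsPGroup.of_card (n := (Nat.card C).primeFactorsList.length)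
    (Nat.eq_prime_pow_of_unique_prime_dvd Nat.card_pos.ne' fun {l} hl hdvd => ?_)
  haveI := Fact.mk hl
  obtain ⟨x, hx⟩ := exists_prime_orderOf_dvd_card' l hdvd
  exact h x x.2 l hl (by rw [Subgroup.orderOf_coe, hx])

/-- Lifting an element of prime order through a homomorphism whose kernel is a `q`-group. -/
theorem exists_lift_orderOf {L : Type v} [Group L] (f : G →* L) {q r : ℕ} (hq : q.Prime)
    (hr : r.Prime) (hqr : q ≠ r) (hker : IsPGroup q f.ker) {h : G} (hh : orderOf (f h) = r) :
    ∃ k : ℕ, orderOf (h ^ k) = r ∧ f h ∈ Subgroup.zpowers (f (h ^ k)) := by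
  obtain ⟨k, hk⟩ := exists_pow_orderOf (hh ▸ orderOf_map_dvd f h : r ∣ orderOf h)
  refine ⟨k, hk, ?_⟩
  haveI := Fact.mk hr
  have hne : f (h ^ k) ≠ 1 := by
    intro h1
    obtain ⟨j, hj⟩ := hker ⟨h ^ k, h1⟩
    have h2 : r ∣ q ^ j := hk ▸ orderOf_dvd_of_pow_eq_one (congrArg Subtype.val hj)
    exact hqr ((Nat.prime_dvd_prime_iff_eq hr hq).1 (hr.dvd_of_dvd_pow h2)).symm
  exact mem_zpowers_of_eq hr
    (orderOf_eq_prime (by rw [← map_pow, ← hk, pow_orderOf_eq_one, map_one]) hne) hh
    (by rw [map_pow]; exact Subgroup.npow_mem_zpowers _ _)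

/-- In the absence of triples, an element centralising part of an elementary normal `p`-subgroup
cannot commute with elements of two further orders. -/
theorem module_not_both (hsolv : Group.IsSolvable G) {π : Finset ℕ} (hπ : ∀ a ∈ π, a.Prime)
    (hT : NoTriple G π) {a b c p : ℕ} (ha : a ∈ π) (hb : b ∈ π) (hc : c ∈ π) (hp : p ∈ π)
    (hab : a ≠ b) (hac : a ≠ c) (hap : a ≠ p) (hbc : b ≠ c) (hbp : b ≠ p) (hcp : c ≠ p)
    {M : Subgroup G} (hM : ElemNormal p M) {g u v m : G} (hg : orderOf g = a) (hm : m ∈ M)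
    (hm1 : m ≠ 1) (hgm : Commute g m) (hu : orderOf u = b) (hv : orderOf v = c)
    (hgu : Commute g u) (hgv : Commute g v) : False := by
  haveI := hM.normal
  haveI := hM.comm
  refine not_both (ρ := (MulAut.conjNormal : G →* MulAut M)) hsolv (hπ b hb) (hπ c hc) hbc
    (hπ p hp) hbp hcp hM.pow_sub (g := g) ?_ hu hv hgu hgv ?_ ?_
  · intro h
    exact hm1 (congrArg Subtype.val (h ⟨m, hm⟩ (fixed_conj_iff.2 hgm)))
  · intro x y hx hy hgx hgy hxy
    exact hT.false hπ ha hb hc hab hbc hac hg hx hy hgx hgy hxy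
  · intro x hx hgx w hgw hxw
    by_contra hw1
    have hwo := hM.orderOf_eq (hπ p hp) w.2 fun h => hw1 (Subtype.ext h)
    rcases hx with hx | hx
    · exact hT.false hπ ha hb hp hab hbp hap hg hx hwo hgx (fixed_conj_iff.1 hgw)
        (fixed_conj_iff.1 hxw)
    · exact hT.false hπ ha hc hp hac hcp hap hg hx hwo hgx (fixed_conj_iff.1 hgw)
        (fixed_conj_iff.1 hxw)

end CfsgLib.TripleFree
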