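import Mathlib
import Cfsg.Agent.TwoGroupsQ.UniqueInvolution
import Cfsg.Agent.TripleFree.FpfOdd
import Cfsg.Agent.TripleFree.Elem

/-!
The four-prime problem: two primes in the Fitting subgroup.
-/

set_option autoImplicit false
set_option linter.style.haveILetI false
set_option linter.unusedSectionVars false

open scoped IsMulCommutative

namespace CfsgLib.TripleFree

universe u

variable {G : Type u} [Group G] [Finite G] {π : Finset ℕ}

/-- The hypotheses on a solvable group with a set of primes, pairwise but not triply joined. -/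
structure JoinData (G : Type u) [Group G] (π : Finset ℕ) : Prop where
  solv : Group.IsSolvable G
  prime : ∀ a ∈ π, a.Prime
  pairs : ∀ a ∈ π, ∀ b ∈ π, a ≠ b → ∃ x y : G, orderOf x = a ∧ orderOf y = b ∧ Commute x y
  triple : NoTriple G π
  primes : ∀ l : ℕ, l.Prime → l ∣ Nat.card G → l ∈ π

/-- Four distinct members of `π` exhausting it. -/
structure Quad (π : Finset ℕ) (p q r s : ℕ) : Prop where
  hp : p ∈ π
  hq : q ∈ π
  hr : r ∈ π
  hs : s ∈ π
  hpq : p ≠ q
  hpr : p ≠ r
  hps : p ≠ s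
  hqr : q ≠ r
  hqs : q ≠ s
  hrs : r ≠ s
  cover : ∀ l ∈ π, l = p ∨ l = q ∨ l = r ∨ l = s

theorem Quad.swapPQ {p q r s : ℕ} (Q : Quad π p q r s) : Quad π q p r s :=
  ⟨Q.hq, Q.hp, Q.hr, Q.hs, Q.hpq.symm, Q.hqr, Q.hqs, Q.hpr, Q.hps, Q.hrs,
    fun l hl => by rcases Q.cover l hl with h | h | h | h <;> tauto⟩

theorem Quad.swapRS {p q r s : ℕ} (Q : Quad π p q r s) : Quad π p q s r :=
  ⟨Q.hp, Q.hq, Q.hs, Q.hr, Q.hpq, Q.hps, Q.hpr, Q.hqs, Q.hqr, Q.hrs.symm,
    fun l hl => by rcases Q.cover l hl with h | h | h | h <;> tauto⟩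

/-- Automorphisms of a cyclic normal subgroup induced by two elements commute. -/
theorem commutator_centralises_cyclic {C : Subgroup G} [C.Normal] [IsCyclic C] (g u : G) :
    ∀ c ∈ C, Commute (g * u * g⁻¹ * u⁻¹) c := by
  intro c hc
  have h2 : ∀ f f' : MulAut C, f * f' = f' * f := fun f f' => by
    obtain ⟨i, hi⟩ := MonoidHom.map_cyclic (f : C →* C)
    obtain ⟨j, hj⟩ := MonoidHom.map_cyclic (f' : C →* C)
    refine MulEquiv.ext fun x => ?_
    have hi' : ∀ x, f x = x ^ i := hi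
    have hj' : ∀ x, f' x = x ^ j := hj
    rw [MulAut.mul_apply, MulAut.mul_apply, hi', hj', hj', hi', ← zpow_mul, ← zpow_mul, mul_comm]
  refine (fixed_conj_iff (m := (⟨c, hc⟩ : C))).1 ?_
  rw [map_mul, map_mul, map_mul, map_inv, map_inv, h2 (MulAut.conjNormal g) (MulAut.conjNormal u),
    mul_inv_cancel_right, mul_inv_cancel, MulAut.one_apply]

/-- An involution centralises the product of an element with its conjugate, if they commute. -/
theorem commute_mul_conj_of_invol {g n : G} (hg : g * g = 1) (hc : Commute n (g * n * g⁻¹)) :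
    Commute g (n * (g * n * g⁻¹)) := by
  have hgi : g⁻¹ = g := inv_eq_of_mul_eq_one_left hg
  show g * (n * (g * n * g⁻¹)) = n * (g * n * g⁻¹) * g
  calc g * (n * (g * n * g⁻¹)) = g * g * n * g⁻¹ * n := by rw [hc.eq]; group
    _ = n * g * n := by rw [hg, one_mul, hgi]
    _ = n * (g * n * g⁻¹) * g := by group

namespace JoinData

variable (D : JoinData G π)
include D

theorem not_cyclic {p q r s : ℕ} (Q : Quad π p q r s) {z : G} (hz : orderOf z = r) :
    ¬ ∀ x : G, orderOf x = r → ∃ g : G, g * x * g⁻¹ ∈ Subgroup.zpowers z := by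
  intro hall
  have hord : ∀ {g t : G}, orderOf (g * t * g⁻¹) = orderOf t := fun {g t} =>
    orderOf_injective (MulAut.conj g).toMonoidHom (MulAut.conj g).injective t
  have hel : ∀ {a : ℕ}, a ∈ π → r ≠ a → ∃ t : G, orderOf t = a ∧ Commute z t := by
    intro a ha hra
    obtain ⟨x, t, hx, ht, hxt⟩ := D.pairs r Q.hr a ha hra
    obtain ⟨g, hg⟩ := hall x hx
    have hzg := mem_zpowers_of_eq (D.prime r Q.hr) (hord.trans hx) hz hg
    exact ⟨g * t * g⁻¹, hord.trans ht, (commute_of_mem_zpowers (x := g * t * g⁻¹)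
      (hxt.symm.map (MulAut.conj g).toMonoidHom) hzg).symm⟩
  set C := Subgroup.centralizer ({z} : Set G)
  have hcom : ∀ u : C, Commute z (u : G) :=
    fun u => (Commute.symm (Subgroup.mem_centralizer_singleton_iff.1 u.2))
  have key : ∀ {e}, e ∈ ({p, q, s} : Finset ℕ) → e ∈ π ∧ r ≠ e := by
    intro e he
    simp only [Finset.mem_insert, Finset.mem_singleton] at he
    rcases he with rfl | rfl | rfl
    exacts [⟨Q.hp, Q.hpr.symm⟩, ⟨Q.hq, Q.hqr.symm⟩, ⟨Q.hs, Q.hrs⟩]
  haveI := D.solv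
  refine three_primes (G := C) inferInstance (π := {p, q, s}) (fun e he => D.prime e (key he).1)
    (Finset.card_eq_three.2 ⟨p, q, s, Q.hpq, Q.hps, Q.hqs, rfl⟩) (fun e he => ?_) ?_
  · obtain ⟨t, ht, hzt⟩ := hel (key he).1 (key he).2
    exact ⟨⟨t, Subgroup.mem_centralizer_singleton_iff.2 hzt.symm.eq⟩,
      by rw [Subgroup.orderOf_mk, ht]⟩
  · intro e he e' he' hne u v hu' hv' huv
    exact D.triple.false D.prime Q.hr (key he).1 (key he').1 (key he).2 hne (key he').2 hz
      (by rw [Subgroup.orderOf_coe, hu']) (by rw [Subgroup.orderOf_coe, hv']) (hcom u) (hcom v)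
      (huv.map C.subtype)

theorem exists_order {p q r s : ℕ} (Q : Quad π p q r s) : ∃ z : G, orderOf z = r := by
  obtain ⟨z, -, hz, -⟩ := D.pairs r Q.hr p Q.hp Q.hpr.symm
  exact ⟨z, hz⟩

theorem exists_moving {p q r s : ℕ} (Q : Quad π p q r s) {M : Subgroup G} (hM : ElemNormal p M) :
    ∃ z t e m : G, orderOf z = r ∧ orderOf t = r ∧ Commute z t ∧ t ∉ Subgroup.zpowers z ∧
      e ∈ Subgroup.closure {t, z} ∧ orderOf e = r ∧ m ∈ M ∧ m ≠ 1 ∧ Commute e m := by
  obtain ⟨z, hz⟩ := D.exists_order Q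
  obtain ⟨t, ht, hzt, hind⟩ :=
    (exists_partner (D.prime r Q.hr) hz).resolve_left (D.not_cyclic Q hz)
  obtain ⟨e, he, heo, m, hm, hm1, hem⟩ :=
    exists_commute_elem (D.prime r Q.hr) (D.prime p Q.hp) Q.hpr.symm hM hz ht hzt hind
  exact ⟨z, t, e, m, hz, ht, hzt, hind, he, heo, hm, hm1, hem⟩

theorem commute_elems {p q r s : ℕ} (Q : Quad π p q r s) {M N : Subgroup G}
    (hMp : M ≤ Cfsg.pCore p G) (hNq : N ≤ Cfsg.pCore q G) :
    ∀ a ∈ M, ∀ b ∈ N, Commute a b := fun _ ha _ hb =>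
  commute_of_pCores (D.prime p Q.hp) (D.prime q Q.hq) Q.hpq (hMp ha) (hNq hb)

/-- No element of order `r` centralises `M`. -/
theorem no_centraliser {p q r s : ℕ} (Q : Quad π p q r s) {M N : Subgroup G}
    (hMp : M ≤ Cfsg.pCore p G) (hM : ElemNormal p M) (hNq : N ≤ Cfsg.pCore q G)
    (hN : ElemNormal q N) {w : G} (hw : orderOf w = r) (hwM : ∀ m ∈ M, Commute w m) : False := by
  obtain ⟨-, -, e, m, -, -, -, -, -, he, hm, hm1, hem⟩ := D.exists_moving Q.swapRS hM
  obtain ⟨n, hn, hn1, -⟩ := hN.exists_ne (D.prime q Q.hq)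
  exact module_not_both D.solv D.prime D.triple Q.hp Q.hr Q.hs Q.hq Q.hpr Q.hps Q.hpq Q.hrs
    Q.hqr.symm Q.hqs.symm hN (hM.orderOf_eq (D.prime p Q.hp) hm hm1) hn hn1
    (D.commute_elems Q hMp hNq m hm n hn) hw he (hwM m hm).symm hem.symm

theorem not_two {p q r s : ℕ} (Q : Quad π p q r s) {M N : Subgroup G}
    (hMp : M ≤ Cfsg.pCore p G) (hM : ElemNormal p M) (hNq : N ≤ Cfsg.pCore q G)
    (hN : ElemNormal q N) : r ≠ 2 := by
  intro hr2
  have hp := D.prime p Q.hp
  have hq := D.prime q Q.hq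
  have hr := D.prime r Q.hr
  haveI := Fact.mk hr
  obtain ⟨z, t, e, m, hz, ht, hzt, hind, he, heo, hm, hm1, hem⟩ := D.exists_moving Q hM
  have hne : ∀ {g : G}, orderOf g = r → g ≠ 1 := fun hg h =>
    hr.one_lt.ne (by rw [← hg, h, orderOf_one])
  have hinvol : ∀ {g : G}, orderOf g = r → g * g = 1 := fun hg => by
    rw [← pow_two, ← hr2, ← hg, pow_orderOf_eq_one]
  -- an involution centralising part of `M` inverts `N`
  have hinv : ∀ {g : G}, orderOf g = r → ∀ {a : G}, a ∈ M → a ≠ 1 → Commute g a →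
      ∀ n ∈ N, g * n * g⁻¹ = n⁻¹ := by
    intro g hg a ha ha1 hga n hn
    have hgn : g * n * g⁻¹ ∈ N := hN.normal.conj_mem n hn g
    have hfix : Commute g (n * (g * n * g⁻¹)) :=
      commute_mul_conj_of_invol (hinvol hg) (hN.mul_comm n hn _ hgn)
    by_contra hne'
    refine D.triple.false D.prime Q.hr Q.hp Q.hq Q.hpr.symm Q.hpq Q.hqr.symm hg
      (hM.orderOf_eq hp ha ha1) (hN.orderOf_eq hq (mul_mem hn hgn) fun h => hne' ?_)
      hga hfix (D.commute_elems Q hMp hNq a ha _ (mul_mem hn hgn))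
    exact eq_inv_of_mul_eq_one_right h
  obtain ⟨f, hf, hef⟩ : ∃ f ∈ ({t, z} : Set G), f ≠ e := by
    by_contra! h
    exact hind (by rw [h t (by simp), ← h z (by simp)]; exact Subgroup.mem_zpowers z)
  have hfo : orderOf f = r := by
    simp only [Set.mem_insert_iff, Set.mem_singleton_iff] at hf
    rcases hf with rfl | rfl <;> assumption
  have hefc : Commute e f := by
    simp only [Set.mem_insert_iff, Set.mem_singleton_iff] at hf
    rcases hf with rfl | rfl
    · exact (commute_of_mem_closure_pair (Commute.refl _) hzt.symm he).symm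
    · exact (commute_of_mem_closure_pair hzt (Commute.refl _) he).symm
  have heN := hinv heo hm hm1 hem
  -- a second involution inverting `N`
  obtain ⟨x, hx, hxe⟩ : ∃ x ∈ M, ¬ Commute e x := by
    by_contra! h
    exact D.no_centraliser Q hMp hM hNq hN heo h
  set v := e * x * e⁻¹ * x⁻¹ with hv
  have hvM : v ∈ M := mul_mem (hM.normal.conj_mem x hx e) (inv_mem hx)
  have hv1 : v ≠ 1 := fun h => hxe (by rwa [hv, mul_inv_eq_one, mul_inv_eq_iff_eq_mul] at h)
  have hei : e⁻¹ = e := inv_eq_of_mul_eq_one_left (hinvol heo)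
  have hfi : f⁻¹ = f := inv_eq_of_mul_eq_one_left (hinvol hfo)
  have hev : e * v * e⁻¹ = v⁻¹ := by
    calc e * v * e⁻¹ = e * e * x * e⁻¹ * x⁻¹ * e⁻¹ := by rw [hv]; group
      _ = x * e * x⁻¹ * e⁻¹ := by rw [hinvol heo, one_mul, hei]
      _ = v⁻¹ := by rw [hv]; group
  obtain ⟨e', he'o, he'e, he'c, b, hb, hb1, he'b⟩ : ∃ e' : G, orderOf e' = r ∧ e' ≠ e ∧
      Commute e e' ∧ ∃ b ∈ M, b ≠ 1 ∧ Commute e' b := by
    by_cases hv' : v * (f * v * f⁻¹) = 1
    · refine ⟨e * f, orderOf_eq_prime ?_ ?_, ?_, (Commute.refl e).mul_right hefc, v, hvM, hv1, ?_⟩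
      · rw [hefc.mul_pow, hr2, pow_two, pow_two, hinvol heo, hinvol hfo, one_mul]
      · exact fun h => hef (by rw [← inv_eq_of_mul_eq_one_right h, hei])
      · exact fun h => hne hfo (mul_left_cancel (h.trans (mul_one e).symm))
      · refine mul_inv_eq_iff_eq_mul.1 ?_
        rw [mul_inv_rev, show e * f * v * (f⁻¹ * e⁻¹) = e * (f * v * f⁻¹) * e⁻¹ by group,
          eq_inv_of_mul_eq_one_right hv', ← conj_inv, hev, inv_inv]
    · refine ⟨f, hfo, hef, hefc, _, mul_mem hvM (hM.normal.conj_mem v hvM f), hv', ?_⟩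
      exact commute_mul_conj_of_invol (hinvol hfo)
        (hM.mul_comm v hvM _ (hM.normal.conj_mem v hvM f))
  have he'N := hinv he'o hb hb1 he'b
  have hee'o : orderOf (e * e') = r := by
    refine orderOf_eq_prime ?_ ?_
    · rw [he'c.mul_pow, hr2, pow_two, pow_two, hinvol heo, hinvol he'o, one_mul]
    · exact fun h => he'e (by rw [← inv_eq_of_mul_eq_one_right h, hei])
  refine D.no_centraliser Q.swapPQ hNq hN hMp hM hee'o fun n hn => ?_
  refine mul_inv_eq_iff_eq_mul.1 ?_
  rw [mul_inv_rev, show e * e' * n * (e'⁻¹ * e⁻¹) = e * (e' * n * e'⁻¹) * e⁻¹ by group,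
    he'N n hn, ← conj_inv, heN n hn, inv_inv]

section Hall

variable {A : Subgroup G} {p q r s : ℕ} (Q : Quad π p q r s)
  (hA : Cfsg.IsPiHall ({r, s} : Set ℕ) A) {M N : Subgroup G}
  (hMp : M ≤ Cfsg.pCore p G) (hM : ElemNormal p M) (hNq : N ≤ Cfsg.pCore q G)
  (hN : ElemNormal q N)
include Q hA hMp hM hNq hN

theorem hall_faithful {a : G} (ha : a ∈ A) (haM : ∀ m ∈ M, Commute a m) : a = 1 := by
  by_contra ha1
  obtain ⟨l, hl, hd⟩ := Nat.exists_prime_and_dvd (fun h => ha1 (orderOf_eq_one_iff.1 h))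
  obtain ⟨k, hk⟩ := exists_pow_orderOf hd
  have hcomm : ∀ m ∈ M, Commute (a ^ k) m := fun m hm => (haM m hm).pow_left k
  have hlA : l ∣ Nat.card A := hd.trans (Subgroup.orderOf_dvd_natCard A ha)
  rcases hA.1 l hl hlA with h | h
  · exact D.no_centraliser Q hMp hM hNq hN (h ▸ hk) hcomm
  · exact D.no_centraliser Q.swapRS hMp hM hNq hN (show orderOf (a ^ k) = s from h ▸ hk) hcomm

/-- Elements of order `s` of the Hall subgroup centralise its `r`-core. -/
theorem core_commute {t : A} (ht : orderOf t = s) :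
    ∀ x ∈ Cfsg.pCore r A, Commute t x := by
  have hr := D.prime r Q.hr
  have hs := D.prime s Q.hs
  have hr2 := D.not_two Q hMp hM hNq hN
  have ht' : orderOf (t : G) = s := by rw [Subgroup.orderOf_coe, ht]
  by_contra hcon
  have key : ∀ {a b : ℕ} {X Y : Subgroup G}, Quad π a b r s → X ≤ Cfsg.pCore a G →
      ElemNormal a X → Y ≤ Cfsg.pCore b G → ElemNormal b Y →
      ∃ m ∈ X, m ≠ 1 ∧ Commute (t : G) m := by
    intro a b X Y Q' hX hXe hY hYe
    haveI := hXe.normal
    haveI := hXe.comm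
    by_contra! hf
    refine hcon (centralises_pGroup (ρ := (MulAut.conjNormal : G →* MulAut X).comp A.subtype) hr hs
      (D.prime a Q'.hp) hr2 Q.hrs Q'.hpr.symm Q'.hps.symm hXe.pow_sub ?_
      (ht ▸ pow_orderOf_eq_one t) ?_ _ (CfsgLib.Solvable.isPGroup_pCore r)
      fun x hx => (CfsgLib.Solvable.pCore_normal r).conj_mem x hx t)
    · rw [injective_iff_map_eq_one]
      intro u hu
      exact Subtype.ext (hall_faithful D Q' hA hX hXe hY hYe u.2 fun m hm =>
        fixed_conj_iff.1 (DFunLike.congr_fun hu (⟨m, hm⟩ : X)))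
    · intro w hw
      by_contra hw1
      exact hf w w.2 (fun h => hw1 (Subtype.ext h)) (fixed_conj_iff.1 hw)
  obtain ⟨m, hm, hm1, htm⟩ := key Q hMp hM hNq hN
  obtain ⟨n, hn, hn1, htn⟩ := key Q.swapPQ hNq hN hMp hM
  exact D.triple.false D.prime Q.hs Q.hp Q.hq Q.hps.symm Q.hpq Q.hqs.symm ht'
    (hM.orderOf_eq (D.prime p Q.hp) hm hm1) (hN.orderOf_eq (D.prime q Q.hq) hn hn1) htm htn
    (D.commute_elems Q hMp hNq m hm n hn)

theorem core_cyclic : IsCyclic (Cfsg.pCore r A) := by
  have hr := D.prime r Q.hr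
  have hs := D.prime s Q.hs
  haveI := Fact.mk hr
  haveI := Fact.mk hs
  haveI := D.solv
  haveI := hM.normal
  haveI := hM.comm
  by_cases hbot : Cfsg.pCore r A = ⊥
  · rw [hbot]; infer_instance
  obtain ⟨-, -, e, m, -, -, -, -, -, he, hm, hm1, hem⟩ := D.exists_moving Q.swapRS hM
  obtain ⟨g, hg⟩ := exists_mem_hall D.solv hA (u := e) fun l hl hd =>
    Or.inr ((Nat.prime_dvd_prime_iff_eq hl hs).1 (he ▸ hd))
  set t : A := ⟨g * e * g⁻¹, hg⟩
  have hto : orderOf (t : G) = s := by
    rw [← he]; exact orderOf_injective (MulAut.conj g).toMonoidHom (MulAut.conj g).injective e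
  set ρM : G →* MulAut M := MulAut.conjNormal
  have htf : ¬ Fpf ρM (t : G) := fun h => hm1 (by
    have h1 := h ⟨g * m * g⁻¹, hM.normal.conj_mem m hm g⟩
      (fixed_conj_iff.2 (hem.map (MulAut.conj g).toMonoidHom))
    simpa using congrArg Subtype.val h1)
  have hu : TwoGroupsQ.HasUniqueOrderP (Cfsg.pCore r A) r := by
    haveI : Nontrivial (Cfsg.pCore r A) := (Subgroup.nontrivial_iff_ne_bot _).2 hbot
    have hP : IsPGroup r (Cfsg.pCore r A) := CfsgLib.Solvable.isPGroup_pCore r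
    haveI := hP.center_nontrivial
    obtain ⟨k, hk⟩ := IsPGroup.iff_card.1 (hP.to_subgroup (Subgroup.center (Cfsg.pCore r A)))
    have hk0 : k ≠ 0 := by
      intro h0
      rw [h0, pow_zero] at hk
      exact absurd (Finite.one_lt_card (α := Subgroup.center (Cfsg.pCore r A))) (by rw [hk]; omega)
    obtain ⟨c, hc⟩ := exists_prime_orderOf_dvd_card' (G := Subgroup.center (Cfsg.pCore r A)) r
      (hk ▸ dvd_pow_self r hk0)
    set z₀ : Cfsg.pCore r A := c.1
    have hz₀ : orderOf z₀ = r := by rw [Subgroup.orderOf_coe, hc]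
    have hmem : ∀ x : Cfsg.pCore r A, x ^ r = 1 → x ∈ Subgroup.zpowers z₀ := by
      intro x hx
      have hcx : Commute x z₀ := Subgroup.mem_center_iff.1 c.2 x
      have h1 := mem_zpowers_of_semiregular (ρ := ρM) hr hM.pow_sub
        ((Nat.coprime_primes hr (D.prime p Q.hp)).2 Q.hpr.symm) htf
        (a := ((x : A) : G)) (b := ((z₀ : A) : G))
        ((D.core_commute Q hA hMp hM hNq hN (t := t) (by rw [← Subgroup.orderOf_coe, hto])
          x x.2).map A.subtype)
        ((D.core_commute Q hA hMp hM hNq hN (t := t) (by rw [← Subgroup.orderOf_coe, hto])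
          z₀ z₀.2).map A.subtype)
        ((hcx.map (Cfsg.pCore r A).subtype).map A.subtype)
        (by simpa using congrArg (fun v : Cfsg.pCore r A => ((v : A) : G)) hx)
        (orderOf_dvd_iff_pow_eq_one.1 (by rw [Subgroup.orderOf_coe, Subgroup.orderOf_coe, hz₀]))
        (fun h => hr.one_lt.ne (by
          rw [← hz₀, show z₀ = 1 from Subtype.ext (Subtype.ext h), orderOf_one]))
        fun u hu hu1 hur w htw huw => by
          by_contra hw1
          have htu : Commute (t : G) u := commute_of_mem_closure_pair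
            ((D.core_commute Q hA hMp hM hNq hN (t := t) (by rw [← Subgroup.orderOf_coe, hto])
              x x.2).map A.subtype)
            ((D.core_commute Q hA hMp hM hNq hN (t := t) (by rw [← Subgroup.orderOf_coe, hto])
              z₀ z₀.2).map A.subtype) hu
          exact D.triple.false D.prime Q.hs Q.hr Q.hp Q.hrs.symm Q.hpr.symm Q.hps.symm hto
            (orderOf_eq_prime hur hu1)
            (hM.orderOf_eq (D.prime p Q.hp) w.2 fun h => hw1 (Subtype.ext h)) htu
            (fixed_conj_iff.1 htw) (fixed_conj_iff.1 huw)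
      obtain ⟨i, hi⟩ := Subgroup.mem_zpowers_iff.1 h1
      exact Subgroup.mem_zpowers_iff.2 ⟨i, Subtype.ext (Subtype.ext (by simpa using hi))⟩
    intro x y hx hy hy1
    exact Subgroup.zpowers_le.2
      (mem_zpowers_of_eq hr (orderOf_eq_prime hy hy1) hz₀ (hmem y hy)) (hmem x hx)
  exact (TwoGroupsQ.isCyclic_or_quaternion (CfsgLib.Solvable.isPGroup_pCore r) hu).resolve_right
    fun h => D.not_two Q hMp hM hNq hN h.1

end Hall

/-- Two primes in the Fitting subgroup are impossible. -/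
theorem false_of_two {p q r s : ℕ} (Q : Quad π p q r s) {M N : Subgroup G}
    (hMp : M ≤ Cfsg.pCore p G) (hM : ElemNormal p M) (hNq : N ≤ Cfsg.pCore q G)
    (hN : ElemNormal q N) : False := by
  haveI := D.solv
  have hr := D.prime r Q.hr
  have hs := D.prime s Q.hs
  haveI := Fact.mk hr
  haveI := Fact.mk hs
  obtain ⟨A, hA⟩ := CfsgLib.Solvable.exists_isPiHall ({r, s} : Set ℕ) G
  have hcycr := D.core_cyclic Q hA hMp hM hNq hN
  have hA' : Cfsg.IsPiHall ({s, r} : Set ℕ) A := by rwa [Set.pair_comm]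
  have hcycs := D.core_cyclic Q.swapRS hA' hMp hM hNq hN
  -- an element of order `r` outside the core
  obtain ⟨u, hu, huR⟩ : ∃ u : A, orderOf u = r ∧ u ∉ Cfsg.pCore r A := by
    obtain ⟨z₀, hz₀⟩ := D.exists_order Q
    obtain ⟨z, hz⟩ := exists_mem_hall_prime D.solv hA hr (Or.inl rfl) hz₀
    by_contra! hall
    rcases exists_partner hr hz with hc | ⟨t, ht, -, hind⟩
    · refine D.not_cyclic Q (z := (z : G)) (by rw [Subgroup.orderOf_coe, hz]) fun x hx => ?_
      obtain ⟨g, hg⟩ := exists_mem_hall D.solv hA (u := x) fun l hl hd =>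
        Or.inl ((Nat.prime_dvd_prime_iff_eq hl hr).1 (hx ▸ hd))
      obtain ⟨a, ha⟩ := hc ⟨g * x * g⁻¹, hg⟩ (by
        rw [Subgroup.orderOf_mk, ← hx]
        exact orderOf_injective (MulAut.conj g).toMonoidHom (MulAut.conj g).injective x)
      obtain ⟨i, hi⟩ := Subgroup.mem_zpowers_iff.1 ha
      refine ⟨(a : G) * g, Subgroup.mem_zpowers_iff.2 ⟨i, ?_⟩⟩
      have := congrArg Subtype.val hi
      simpa [mul_assoc] using this
    · haveI := hcycr
      have h1 : (⟨t, hall t ht⟩ : Cfsg.pCore r A) ∈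
          Subgroup.zpowers (⟨z, hall z hz⟩ : Cfsg.pCore r A) := by
        have hcard : ∀ {x : A} (hx : orderOf x = r),
            Nat.card (Subgroup.zpowers (⟨x, hall x hx⟩ : Cfsg.pCore r A)) = r := fun {x} hx => by
          rw [Nat.card_zpowers, Subgroup.orderOf_mk, hx]
        rw [CfsgLib.CharactersDeep.QuaternionSylow.eq_of_card_eq ((hcard hz).trans (hcard ht).symm)]
        exact Subgroup.mem_zpowers _
      obtain ⟨i, hi⟩ := Subgroup.mem_zpowers_iff.1 h1
      exact hind (Subgroup.mem_zpowers_iff.2 ⟨i, by simpa using congrArg Subtype.val hi⟩)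
  have hus : ∀ x ∈ Cfsg.pCore s A, Commute u x :=
    D.core_commute Q.swapRS hA' hMp hM hNq hN (t := u) hu
  have hcores : ∀ l, l.Prime → l ≠ r → l ≠ s → Cfsg.pCore l A = ⊥ := fun l hl h1 h2 => by
    haveI := Fact.mk hl
    exact CfsgLib.Solvable.pCore_eq_bot_of_not_dvd fun h => (hA.1 l hl h).elim h1 h2
  haveI := CfsgLib.Solvable.pCore_normal (G := A) r
  haveI := CfsgLib.Solvable.pCore_normal (G := A) s
  haveI := hcycr
  haveI := hcycs
  set T := Cfsg.pCore r A ⊔ Subgroup.zpowers u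
  have hTp : IsPGroup r T :=
    IsPGroup.to_sup_of_normal_left (CfsgLib.Solvable.isPGroup_pCore r)
      (IsPGroup.of_card (n := 1) (by rw [Nat.card_zpowers, hu, pow_one]))
  have hTn : T.Normal := by
    refine ⟨fun x hx g => ?_⟩
    have hgu : g * u * g⁻¹ ∈ T := by
      have hc := mem_sup_of_centralises (G := A) inferInstance hcores
        (commutator_centralises_cyclic g u) (commutator_centralises_cyclic g u)
      obtain ⟨a, ha, b, hb, hab⟩ := Subgroup.mem_sup_of_normal_right.1 hc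
      have hgu' : g * u * g⁻¹ = a * u * b := by
        rw [mul_assoc a, (hus b hb).eq, ← mul_assoc, hab]
        group
      have haub : Commute (a * u) b :=
        (commute_of_pCores hr hs Q.hrs ha hb).mul_left (hus b hb)
      have hauT : a * u ∈ T :=
        mul_mem (Subgroup.mem_sup_left ha) (Subgroup.mem_sup_right (Subgroup.mem_zpowers u))
      obtain ⟨k, hk⟩ := hTp ⟨a * u, hauT⟩
      have hk' : (a * u) ^ r ^ k = 1 := congrArg Subtype.val hk
      obtain ⟨j, hj⟩ := orderOf_dvd_of_mem_pCore hb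
      have h1 : (g * u * g⁻¹) ^ (r ^ (k + 1)) = 1 := by
        rw [conj_pow, pow_succ, pow_mul', ← hu, pow_orderOf_eq_one, one_pow, mul_one,
          mul_inv_cancel]
      rw [hgu', haub.mul_pow, pow_succ, pow_mul, hk', one_pow, one_mul, ← pow_succ] at h1
      have h2 : orderOf b = 1 := Nat.eq_one_of_dvd_coprimes
        (Nat.Coprime.pow (k + 1) j ((Nat.coprime_primes hr hs).2 Q.hrs))
        (orderOf_dvd_of_pow_eq_one h1) hj
      rw [hgu', orderOf_eq_one_iff.1 h2, mul_one]
      exact hauT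
    have hle : T ≤ T.comap (MulAut.conj g).toMonoidHom := by
      refine sup_le (fun y hy => Subgroup.mem_sup_left ?_) (Subgroup.zpowers_le.2 hgu)
      exact (CfsgLib.Solvable.pCore_normal r).conj_mem y hy g
    exact hle hx
  haveI := hTn
  exact huR (CfsgLib.Solvable.le_pCore hTp (Subgroup.mem_sup_right (Subgroup.mem_zpowers u)))

end JoinData

end CfsgLib.TripleFree
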