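import Mathlib
import Cfsg.Agent.Coprime.Action

/-!
The layer module of a normal `s`-subgroup: an elementary abelian group on which the ambient group
acts, detecting the centralisers in the subgroup.
-/

set_option autoImplicit false
set_option linter.style.haveILetI false

namespace CfsgLib.TripleFree

universe u

theorem exists_layer_aux {s : ℕ} [hs : Fact s.Prime] : ∀ (b : ℕ) {X : Type u} [Group X] [Finite X]
    (S : Subgroup X) [S.Normal], IsPGroup s S → Nat.card S ≤ b →
    ∃ (W : Type u) (_ : CommGroup W) (_ : Finite W) (ρ : X →* MulAut W), (∀ w : W, w ^ s = 1) ∧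
      (∀ x ∈ S, ρ x = 1) ∧
      (∀ g : X, ∀ c ∈ S, c ≠ 1 → Commute g c → ∃ w : W, w ≠ 1 ∧ ρ g w = w) ∧
      (∀ g : X, ¬ s ∣ orderOf g → (∃ w : W, w ≠ 1 ∧ ρ g w = w) →
        ∃ c ∈ S, c ≠ 1 ∧ Commute g c) ∧
      (∀ g : X, ¬ s ∣ orderOf g → ρ g = 1 → ∀ x ∈ S, Commute g x) := by
  intro b
  induction b with
  | zero => intro X _ _ S _ _ hc; exact absurd hc (Nat.not_le.2 Nat.card_pos)
  | succ b ih =>
    intro X _ _ S hSn hS hc
    by_cases hSb : S = ⊥
    · subst hSb
      refine ⟨PUnit.{u + 1}, inferInstance, inferInstance, 1, fun w => Subsingleton.elim _ _,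
        fun x _ => rfl, fun g c hc hc1 _ => absurd (Subgroup.mem_bot.1 hc) hc1,
        fun g _ ⟨w, hw, _⟩ => absurd (Subsingleton.elim w 1) hw, fun g _ _ x hx => ?_⟩
      rw [Subgroup.mem_bot.1 hx]
      exact Commute.one_right g
    let Z : Subgroup X :=
      { carrier := {x | x ∈ S ∧ (∀ y ∈ S, Commute x y) ∧ x ^ s = 1}
        one_mem' := ⟨one_mem _, fun y _ => Commute.one_left y, one_pow _⟩
        mul_mem' := fun {a c} ha hc => ⟨mul_mem ha.1 hc.1,
          fun y hy => (ha.2.1 y hy).mul_left (hc.2.1 y hy), by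
            rw [(ha.2.1 c hc.1).mul_pow, ha.2.2, hc.2.2, one_mul]⟩
        inv_mem' := fun {a} ha => ⟨inv_mem ha.1, fun y hy => (ha.2.1 y hy).inv_left, by
          rw [inv_pow, ha.2.2, inv_one]⟩ }
    have hZS : Z ≤ S := fun x hx => hx.1
    haveI hZn : Z.Normal := ⟨fun x hx g => ⟨hSn.conj_mem x hx.1 g, fun y hy => by
      have h := (hx.2.1 (g⁻¹ * y * g) (by simpa using hSn.conj_mem y hy g⁻¹)).map
        (MulAut.conj g).toMonoidHom
      simpa [mul_assoc] using h, by rw [conj_pow, hx.2.2, mul_one, mul_inv_cancel]⟩⟩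
    have hZne : Z ≠ ⊥ := by
      haveI : Nontrivial S := (Subgroup.nontrivial_iff_ne_bot S).2 hSb
      haveI := hS.center_nontrivial
      obtain ⟨n, hn⟩ := IsPGroup.iff_card.1 (hS.to_subgroup (Subgroup.center S))
      have hn0 : n ≠ 0 := by
        intro h0
        rw [h0, pow_zero] at hn
        exact absurd (Finite.one_lt_card (α := Subgroup.center S)) (by rw [hn]; omega)
      obtain ⟨z, hz⟩ := exists_prime_orderOf_dvd_card' (G := Subgroup.center S) s
        (hn ▸ dvd_pow_self s hn0)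
      intro hbot
      have hzZ : ((z : S) : X) ∈ Z := ⟨(z : S).2,
        fun y hy => (congrArg Subtype.val (Subgroup.mem_center_iff.1 z.2 ⟨y, hy⟩)).symm, by
        have h1 := congrArg (fun t : Subgroup.center S => ((t : S) : X)) (pow_orderOf_eq_one z)
        rw [hz] at h1
        simpa using h1⟩
      rw [hbot, Subgroup.mem_bot] at hzZ
      have h1 : z = 1 := Subtype.ext (Subtype.ext hzZ)
      rw [h1, orderOf_one] at hz
      exact hs.out.one_lt.ne hz
    letI : CommGroup Z := { (inferInstance : Group Z) with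
      mul_comm := fun x y => Subtype.ext (x.2.2.1 y y.2.1) }
    set π := QuotientGroup.mk' Z with hπ
    haveI : (S.map π).Normal := Subgroup.Normal.map hSn π (QuotientGroup.mk'_surjective Z)
    have hlt : Nat.card (S.map π) ≤ b := by
      have hcard : Nat.card (S.map π) * Nat.card Z = Nat.card S := by
        have e := Subgroup.card_eq_card_quotient_mul_card_subgroup (Z.subgroupOf S)
        rw [Nat.card_congr (Subgroup.subgroupOfEquivOfLe hZS).toEquiv] at e
        rw [e]
        congr 1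
        have h2 : (π.comp S.subtype).ker = Z.subgroupOf S := by
          ext x
          simp [hπ, Subgroup.mem_subgroupOf, QuotientGroup.eq_one_iff]
        rw [← h2]
        have h3 : (π.comp S.subtype).range = S.map π := by
          rw [MonoidHom.range_comp, Subgroup.range_subtype]
        rw [← h3]
        exact (Nat.card_congr (QuotientGroup.quotientKerEquivRange _).toEquiv).symm
      have hZ2 : 2 ≤ Nat.card Z := Z.one_lt_card_iff_ne_bot.2 hZne
      have hpos : 0 < Nat.card (S.map π) := Nat.card_pos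
      nlinarith
    obtain ⟨W', iW, fW, ρ', hexp', ha', hb', hc', hd'⟩ :=
      ih (X := X ⧸ Z) (S.map π) (hS.map π) hlt
    let ρ : X →* MulAut (Z × W') :=
      { toFun := fun g => MulEquiv.prodCongr (MulAut.conjNormal g) (ρ' (π g))
        map_one' := MulEquiv.ext fun w => by
          show (MulAut.conjNormal (1 : X) w.1, ρ' (π 1) w.2) = w
          rw [map_one, map_one, map_one]
          rfl
        map_mul' := fun g h => MulEquiv.ext fun w => by
          show (MulAut.conjNormal (g * h) w.1, ρ' (π (g * h)) w.2) =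
            (MulAut.conjNormal g (MulAut.conjNormal h w.1), ρ' (π g) (ρ' (π h) w.2))
          rw [map_mul, map_mul, map_mul]
          rfl }
    have hρ : ∀ (g : X) (w : Z × W'), ρ g w = (MulAut.conjNormal g w.1, ρ' (π g) w.2) :=
      fun g w => rfl
    have hfixZ : ∀ (g : X) (z : Z), MulAut.conjNormal g z = z ↔ Commute g (z : X) := by
      intro g z
      rw [Subtype.ext_iff]
      show g * (z : X) * g⁻¹ = z ↔ _
      exact mul_inv_eq_iff_eq_mul
    have hord : ∀ g : X, ¬ s ∣ orderOf g → ¬ s ∣ orderOf (π g) := fun g hg h =>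
      hg (h.trans (orderOf_map_dvd π g))
    refine ⟨Z × W', inferInstance, inferInstance, ρ, fun w => ?_, fun x hx => ?_, ?_, ?_, ?_⟩
    · exact Prod.ext (Subtype.ext (by simpa using w.1.2.2.2)) (by simpa using hexp' w.2)
    · refine MulEquiv.ext fun w => ?_
      rw [hρ, ha' _ ⟨x, hx, rfl⟩, (hfixZ x w.1).2 (w.1.2.2.1 x hx).symm]
      rfl
    · intro g c hc hc1 hgc
      by_cases hcZ : c ∈ Z
      · refine ⟨(⟨c, hcZ⟩, 1), fun h => hc1 (congrArg (fun w : Z × W' => ((w.1 : Z) : X)) h), ?_⟩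
        rw [hρ, (hfixZ g ⟨c, hcZ⟩).2 hgc, map_one]
      · obtain ⟨w, hw1, hw⟩ := hb' (π g) (π c) ⟨c, hc, rfl⟩
          (fun h => hcZ ((QuotientGroup.eq_one_iff c).1 h)) (hgc.map π)
        exact ⟨(1, w), fun h => hw1 (congrArg Prod.snd h), by rw [hρ, map_one, hw]⟩
    · rintro g hg ⟨⟨z, w⟩, hne, hw⟩
      rw [hρ, Prod.ext_iff] at hw
      by_cases hz1 : z = 1
      · have hw1 : w ≠ 1 := fun h => hne (by rw [hz1, h]; rfl)
        obtain ⟨c', hc'S, hc'1, hcomm⟩ := hc' (π g) (hord g hg) ⟨w, hw1, hw.2⟩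
        obtain ⟨c, hcS, rfl⟩ := hc'S
        have hcop : (Nat.card (Subgroup.zpowers g)).Coprime (Nat.card Z) := by
          obtain ⟨n, hn⟩ := IsPGroup.iff_card.1 (hS.to_le hZS)
          rw [Nat.card_zpowers, hn]
          exact Nat.Coprime.pow_right _ (hs.out.coprime_iff_not_dvd.2 hg).symm
        obtain ⟨c₀, hc₀, hc₀Z⟩ := CfsgLib.Coprime.exists_fixed_mem_coset (A := Subgroup.zpowers g)
          (N := Z) (Subgroup.le_normalizer_of_normal) hcop
          (Or.inl inferInstance) (k := c) (fun a ha => by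
            obtain ⟨k, rfl⟩ := Subgroup.mem_zpowers_iff.1 ha
            have h2 : Commute (π (g ^ k)) (π c) := by
              rw [map_zpow]
              exact hcomm.zpow_left k
            rw [← QuotientGroup.eq_one_iff]
            show π (c⁻¹ * (g ^ k * c * (g ^ k)⁻¹)) = 1
            rw [map_mul, map_mul, map_mul, map_inv, map_inv, h2.eq, mul_inv_cancel_right,
              inv_mul_cancel])
        refine ⟨c₀, ?_, ?_, (Subgroup.mem_centralizer_iff.1 hc₀ g (Subgroup.mem_zpowers g))⟩
        · simpa using mul_mem hcS (hZS hc₀Z)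
        · intro h1
          rw [h1, mul_one] at hc₀Z
          exact hc'1 ((QuotientGroup.eq_one_iff c).2 (inv_mem_iff.1 hc₀Z))
      · exact ⟨z, hZS z.2, fun h => hz1 (Subtype.ext h), (hfixZ g z).1 hw.1⟩
    · intro g hg h1 x hx
      have hgZ : ∀ z : Z, Commute g (z : X) := fun z => (hfixZ g z).1
        (congrArg Prod.fst (DFunLike.congr_fun h1 (z, (1 : W'))))
      have hρ'1 : ρ' (π g) = 1 := MulEquiv.ext fun w =>
        congrArg Prod.snd (DFunLike.congr_fun h1 ((1 : Z), w))
      have h2 := hd' (π g) (hord g hg) hρ'1 (π x) ⟨x, hx, rfl⟩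
      have hz : x⁻¹ * (g * x * g⁻¹) ∈ Z := by
        rw [← QuotientGroup.eq_one_iff]
        show π (x⁻¹ * (g * x * g⁻¹)) = 1
        rw [map_mul, map_mul, map_mul, map_inv, map_inv, h2.eq, mul_inv_cancel_right,
          inv_mul_cancel]
      set z := x⁻¹ * (g * x * g⁻¹) with hzdef
      have hk : ∀ k : ℕ, g ^ k * x * (g ^ k)⁻¹ = x * z ^ k := by
        intro k
        induction k with
        | zero => simp
        | succ k ihk =>
          calc g ^ (k + 1) * x * (g ^ (k + 1))⁻¹ = g * (g ^ k * x * (g ^ k)⁻¹) * g⁻¹ := by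
                rw [pow_succ']; group
            _ = (g * x * g⁻¹) * (g * z ^ k * g⁻¹) := by rw [ihk]; group
            _ = (x * z) * z ^ k := by
              rw [((hgZ ⟨z, hz⟩).pow_right k).eq, mul_inv_cancel_right,
                show x * z = g * x * g⁻¹ from mul_inv_cancel_left x (g * x * g⁻¹)]
            _ = x * z ^ (k + 1) := by rw [mul_assoc, ← pow_succ']
      have h3 := hk (orderOf g)
      rw [pow_orderOf_eq_one, one_mul, inv_one, mul_one, left_eq_mul] at h3
      have h4 : orderOf z = 1 := Nat.eq_one_of_dvd_coprimes (hs.out.coprime_iff_not_dvd.2 hg).symm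
        (orderOf_dvd_of_pow_eq_one h3) (orderOf_dvd_of_pow_eq_one hz.2.2)
      rw [orderOf_eq_one_iff, hzdef, inv_mul_eq_one] at h4
      exact mul_inv_eq_iff_eq_mul.1 h4.symm

/-- The layer module of a normal `s`-subgroup. -/
theorem exists_layer {X : Type u} [Group X] [Finite X] {s : ℕ} (hs : s.Prime) (S : Subgroup X)
    [S.Normal] (hS : IsPGroup s S) :
    ∃ (W : Type u) (_ : CommGroup W) (_ : Finite W) (ρ : X →* MulAut W), (∀ w : W, w ^ s = 1) ∧
      (∀ x ∈ S, ρ x = 1) ∧
      (∀ g : X, ∀ c ∈ S, c ≠ 1 → Commute g c → ∃ w : W, w ≠ 1 ∧ ρ g w = w) ∧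
      (∀ g : X, ¬ s ∣ orderOf g → (∃ w : W, w ≠ 1 ∧ ρ g w = w) →
        ∃ c ∈ S, c ≠ 1 ∧ Commute g c) ∧
      (∀ g : X, ¬ s ∣ orderOf g → ρ g = 1 → ∀ x ∈ S, Commute g x) :=
  haveI := Fact.mk hs
  exists_layer_aux (Nat.card S) S hS le_rfl

end CfsgLib.TripleFree
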