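import Mathlib
import Cfsg.Agent.TwoGroupsQ.UniqueInvolution
import Cfsg.Agent.TripleFree.FpfOdd
import Cfsg.Agent.TripleFree.Layer
import Cfsg.Agent.TripleFree.Elem

/-!
The four-prime problem for a faithful module of one of the primes: the general facts.
-/

set_option autoImplicit false
set_option linter.style.haveILetI false
set_option linter.unusedSectionVars false

open scoped IsMulCommutative

namespace CfsgLib.TripleFree

universe u

variable {G : Type u} [Group G] [Finite G] {W : Type u} [CommGroup W] [Finite W]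
  {ρ : G →* MulAut W} {π : Finset ℕ} {s : ℕ}

/-- The hypotheses on a group with a faithful module of exponent `s`. -/
structure ModData (ρ : G →* MulAut W) (π : Finset ℕ) (s : ℕ) : Prop where
  solv : Group.IsSolvable G
  inj : Function.Injective ρ
  exp : ∀ w : W, w ^ s = 1
  prime : ∀ a ∈ π, a.Prime
  mem : s ∈ π
  pairs : ∀ a ∈ π, ∀ b ∈ π, a ≠ s → b ≠ s → a ≠ b →
    ∃ x y : G, orderOf x = a ∧ orderOf y = b ∧ Commute x y
  triple : NoTriple G π
  fix_pair : ∀ a ∈ π, ∀ b ∈ π, a ≠ s → b ≠ s → a ≠ b → ∀ x y : G, orderOf x = a → orderOf y = b →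
    Commute x y → ∀ w, ρ x w = w → ρ y w = w → w = 1
  single : ∀ a ∈ π, a ≠ s → ∃ x : G, orderOf x = a ∧
    (¬ Fpf ρ x ∨ ∃ t, orderOf t = s ∧ Commute x t)

/-- Three primes of `π` other than `s`, distinct. -/
structure Trio (π : Finset ℕ) (s a b c : ℕ) : Prop where
  ha : a ∈ π
  hb : b ∈ π
  hc : c ∈ π
  has : a ≠ s
  hbs : b ≠ s
  hcs : c ≠ s
  hab : a ≠ b
  hac : a ≠ c
  hbc : b ≠ c

theorem Trio.swap {a b c : ℕ} (T : Trio π s a b c) : Trio π s a c b :=
  ⟨T.ha, T.hc, T.hb, T.has, T.hcs, T.hbs, T.hac, T.hab, T.hbc.symm⟩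

theorem Trio.rot {a b c : ℕ} (T : Trio π s a b c) : Trio π s b c a :=
  ⟨T.hb, T.hc, T.ha, T.hbs, T.hcs, T.has, T.hbc, T.hab.symm, T.hac.symm⟩

theorem Trio.swap₁ {a b c : ℕ} (T : Trio π s a b c) : Trio π s b a c := T.rot.swap

/-- `x` is fixed-point-free and centralises `M`, `y` has fixed points and acts semiregularly on
`M`. -/
def SplitPair (ρ : G →* MulAut W) (a : ℕ) (M : Subgroup G) (x y : G) : Prop :=
  (∀ m ∈ M, Commute x m) ∧ Fpf ρ x ∧ (∀ m ∈ M, Commute y m → m = 1) ∧ ¬ Fpf ρ y ∧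
    ∀ t : G, orderOf t = a → ¬ Commute y t

namespace ModData

variable (D : ModData ρ π s)
include D

theorem coprime_s {a : ℕ} (ha : a ∈ π) (has : a ≠ s) : a.Coprime s :=
  (Nat.coprime_primes (D.prime a ha) (D.prime s D.mem)).2 has

theorem nontrivial_module {x : G} (hx : x ≠ 1) : Nontrivial W := by
  by_contra h
  rw [not_nontrivial_iff_subsingleton] at h
  exact hx (D.inj (by rw [map_one]; exact MulEquiv.ext fun w => Subsingleton.elim _ _))

theorem noBoth {a b c : ℕ} (T : Trio π s a b c) {g u v : G} (hg : ¬ Fpf ρ g) (hga : orderOf g = a)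
    (hu : orderOf u = b) (hv : orderOf v = c) (hgu : Commute g u) (hgv : Commute g v) : False :=
  not_both D.solv (D.prime b T.hb) (D.prime c T.hc) T.hbc (D.prime s D.mem) T.hbs T.hcs D.exp hg
    hu hv hgu hgv
    (fun x y hx hy hgx hgy hxy =>
      D.triple.false D.prime T.ha T.hb T.hc T.hab T.hbc T.hac hga hx hy hgx hgy hxy)
    (fun x hx hgx w hgw hxw => by
      rcases hx with hx | hx
      · exact D.fix_pair a T.ha b T.hb T.has T.hbs T.hab g x hga hx hgx w hgw hxw
      · exact D.fix_pair a T.ha c T.hc T.has T.hcs T.hac g x hga hx hgx w hgw hxw)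

theorem centralises_elem {a b : ℕ} (ha : a ∈ π) (hb : b ∈ π) (has : a ≠ s) (hab : a ≠ b)
    {M : Subgroup G} (hM : ElemNormal a M) {y : G} (hy : orderOf y = b) (hf : Fpf ρ y) :
    ∀ m ∈ M, Commute y m := by
  haveI := Fact.mk (D.prime a ha)
  obtain ⟨n, hn⟩ := IsPGroup.iff_card.1
    (fun x : M => ⟨1, by rw [pow_one]; exact hM.pow_sub x⟩ : IsPGroup a M)
  refine centralises_of_fpf D.exp D.inj (D.prime b hb) (hy ▸ pow_orderOf_eq_one y) hf M hM.mul_comm
    (fun x hx => hM.normal.conj_mem x hx y) ?_ ?_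
  · rw [hn]; exact Nat.Coprime.pow_left _ ((Nat.coprime_primes (D.prime a ha) (D.prime b hb)).2 hab)
  · rw [hn]; exact Nat.Coprime.pow_left _ (D.coprime_s ha has)

theorem splitPair_of_fixed {a b c : ℕ} (T : Trio π s a b c) {M : Subgroup G} (hM : ElemNormal a M)
    {x y : G} (hx : orderOf x = b) (hy : orderOf y = c) (hxy : Commute x y) {m : G} (hm : m ∈ M)
    (hm1 : m ≠ 1) (hxm : Commute x m) : SplitPair ρ a M x y := by
  have hmo := hM.orderOf_eq (D.prime a T.ha) hm hm1
  -- `x` has no fixed point, as it commutes with `m` and `y`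
  have hxf : Fpf ρ x := by
    by_contra h
    exact D.noBoth T.swap₁ h hx hmo hy hxm hxy
  have hxall := D.centralises_elem T.ha T.hb T.has T.hab hM hx hxf
  have hysemi : ∀ n ∈ M, Commute y n → n = 1 := fun n hn hyn => by
    by_contra hn1
    exact D.triple.false D.prime T.hb T.hc T.ha T.hbc T.hac.symm T.hab.symm hx hy
      (hM.orderOf_eq (D.prime a T.ha) hn hn1) hxy (hxall n hn) hyn
  have hyf : ¬ Fpf ρ y := fun h =>
    hm1 (hysemi m hm (D.centralises_elem T.ha T.hc T.has T.hac hM hy h m hm))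
  refine ⟨hxall, hxf, hysemi, hyf, fun t ht hyt => ?_⟩
  exact D.noBoth T.rot.rot hyf hy ht hx hyt hxy.symm

/-- Commuting elements of two orders: one centralises the elementary subgroup of the third. -/
theorem splitPair {a b c : ℕ} (T : Trio π s a b c) {M : Subgroup G} (hM : ElemNormal a M)
    {x y : G} (hx : orderOf x = b) (hy : orderOf y = c) (hxy : Commute x y) :
    SplitPair ρ a M x y ∨ SplitPair ρ a M y x := by
  by_cases h1 : ∃ m ∈ M, m ≠ 1 ∧ Commute x m
  · obtain ⟨m, hm, hm1, hxm⟩ := h1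
    exact Or.inl (D.splitPair_of_fixed T hM hx hy hxy hm hm1 hxm)
  by_cases h2 : ∃ m ∈ M, m ≠ 1 ∧ Commute y m
  · obtain ⟨m, hm, hm1, hym⟩ := h2
    exact Or.inr (D.splitPair_of_fixed T.swap hM hy hx hxy.symm hm hm1 hym)
  exfalso
  push Not at h1 h2
  have hbp := D.prime b T.hb
  have hcp := D.prime c T.hc
  have hxb : x ^ b = 1 := hx ▸ pow_orderOf_eq_one x
  have hyc : y ^ c = 1 := hy ▸ pow_orderOf_eq_one y
  have hxc : ∃ j, (x ^ c) ^ j = x := exists_pow_eq_self_of_coprime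
    (hx ▸ (Nat.coprime_primes hcp hbp).2 T.hbc.symm)
  have hyb : ∃ j, (y ^ b) ^ j = y := exists_pow_eq_self_of_coprime
    (hy ▸ (Nat.coprime_primes hbp hcp).2 T.hbc)
  have hhn : (x * y) ^ (b * c) = 1 := by
    rw [hxy.mul_pow, pow_mul, hxb, one_pow, one_mul, mul_comm, pow_mul, hyc, one_pow]
  have hhc : (x * y) ^ c = x ^ c := by rw [hxy.mul_pow, hyc, mul_one]
  have hhb : (x * y) ^ b = y ^ b := by rw [hxy.mul_pow, hxb, one_mul]
  haveI := Fact.mk (D.prime a T.ha)
  obtain ⟨n, hn⟩ := IsPGroup.iff_card.1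
    (fun z : M => ⟨1, by rw [pow_one]; exact hM.pow_sub z⟩ : IsPGroup a M)
  have htriv := trivial_of_fpf (ρ := ρ) D.exp M hhn (Nat.mul_pos hbp.pos hcp.pos)
    (fun z hz => hM.normal.conj_mem z hz (x * y)) ?_
    (hn ▸ Nat.Coprime.pow_left _ (D.coprime_s T.ha T.has)) ?_
  · obtain ⟨m, hm, hm1, -⟩ := hM.exists_ne (D.prime a T.ha)
    exact hm1 (D.inj (by rw [map_one]; exact MulEquiv.ext (htriv m hm)))
  · intro i hi1 hi2 z hz hzc
    by_contra hz1
    by_cases hbi : b ∣ i
    · have hci : ¬ c ∣ i := fun h => absurd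
        (Nat.le_of_dvd hi1 (((Nat.coprime_primes hbp hcp).2 T.hbc).mul_dvd_of_dvd_of_dvd hbi h))
        (Nat.not_le.2 hi2)
      have h3 : Commute z (y ^ i) := by
        obtain ⟨t, rfl⟩ := hbi
        rwa [hxy.mul_pow, pow_mul x, hxb, one_pow, one_mul] at hzc
      obtain ⟨j, hj⟩ := exists_pow_eq_self_of_coprime (x := y) (n := i)
        (hy ▸ (hcp.coprime_iff_not_dvd.2 hci).symm)
      exact h2 z hz hz1 (hj ▸ h3.pow_right j).symm
    · have h3 : Commute z ((x ^ i) ^ c) := by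
        have h4 := hzc.pow_right c
        rwa [← pow_mul, mul_comm, pow_mul, hhc, ← pow_mul, mul_comm c, pow_mul] at h4
      obtain ⟨j, hj⟩ := exists_pow_eq_self_of_coprime (x := x) (n := i * c) (hx ▸
        (Nat.Coprime.mul_right (hbp.coprime_iff_not_dvd.2 hbi)
          ((Nat.coprime_primes hbp hcp).2 T.hbc)).symm)
      have h5 := h3.pow_right j
      rw [← pow_mul x, hj] at h5
      exact h1 z hz hz1 h5.symm
  · intro w hw
    have hxw : ρ x w = w := by
      obtain ⟨j, hj⟩ := hxc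
      exact fixed_of_pow hj (hhc ▸ fixed_pow hw c)
    have hyw : ρ y w = w := by
      obtain ⟨j, hj⟩ := hyb
      exact fixed_of_pow hj (hhb ▸ fixed_pow hw b)
    exact D.fix_pair b T.hb c T.hc T.hbs T.hcs T.hbc x y hx hy hxy w hxw hyw

/-- Every element of order `b` has an independent commuting partner of the same order. -/
theorem partner {a b c : ℕ} (T : Trio π s a b c) {z : G} (hz : orderOf z = b) :
    ∃ t : G, orderOf t = b ∧ Commute z t ∧ t ∉ Subgroup.zpowers z := by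
  refine (exists_partner (D.prime b T.hb) hz).resolve_left fun hall => ?_
  have hmove : ∀ {x t : G}, orderOf x = b → Commute x t →
      ∃ g : G, z ∈ Subgroup.zpowers (g * x * g⁻¹) ∧ Commute z (g * t * g⁻¹) := by
    intro x t hx hxt
    obtain ⟨g, hg⟩ := hall x hx
    have hgo : orderOf (g * x * g⁻¹) = b := by
      rw [← hx]; exact orderOf_injective (MulAut.conj g).toMonoidHom (MulAut.conj g).injective x
    have hzg := mem_zpowers_of_eq (D.prime b T.hb) hgo hz hg
    exact ⟨g, hzg, (commute_of_mem_zpowers (x := g * t * g⁻¹)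
      (hxt.symm.map (MulAut.conj g).toMonoidHom) hzg).symm⟩
  have hord : ∀ {g t : G}, orderOf (g * t * g⁻¹) = orderOf t := fun {g t} =>
    orderOf_injective (MulAut.conj g).toMonoidHom (MulAut.conj g).injective t
  obtain ⟨x₁, y₁, hx₁, hy₁, hc₁⟩ := D.pairs b T.hb a T.ha T.hbs T.has T.hab.symm
  obtain ⟨g₁, -, hu⟩ := hmove hx₁ hc₁
  obtain ⟨x₂, y₂, hx₂, hy₂, hc₂⟩ := D.pairs b T.hb c T.hc T.hbs T.hcs T.hbc
  obtain ⟨g₂, -, hv⟩ := hmove hx₂ hc₂
  by_cases hzf : ¬ Fpf ρ z
  · exact D.noBoth T.swap₁ hzf hz (hord.trans hy₁) (hord.trans hy₂) hu hv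
  rw [not_not] at hzf
  obtain ⟨x, hx, hxf | ⟨t, ht, hxt⟩⟩ := D.single b T.hb T.hbs
  · obtain ⟨g, hg, -⟩ := hmove hx (Commute.one_right x)
    refine hxf fun w hw => ?_
    obtain ⟨k, hk⟩ := Subgroup.mem_zpowers_iff.1 hg
    have h1 : ρ z (ρ g w) = ρ g w := by
      rw [← hk]
      refine fixed_zpow ?_ k
      rw [← MulAut.mul_apply, ← map_mul, inv_mul_cancel_right, map_mul, MulAut.mul_apply, hw]
    exact (MulEquiv.map_eq_one_iff _).1 (hzf _ h1)
  · obtain ⟨g, -, ht'⟩ := hmove hx hxt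
    set C := Subgroup.centralizer ({z} : Set G)
    have hmem : ∀ {u : G}, Commute z u → u ∈ C :=
      fun h => Subgroup.mem_centralizer_singleton_iff.2 h.symm.eq
    have hcom : ∀ u : C, Commute z (u : G) :=
      fun u => (Commute.symm (Subgroup.mem_centralizer_singleton_iff.1 u.2))
    haveI := D.solv
    refine three_primes (G := C) inferInstance (π := {a, c, s}) ?_ ?_ ?_ ?_
    · intro e he
      simp only [Finset.mem_insert, Finset.mem_singleton] at he
      rcases he with rfl | rfl | rfl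
      exacts [D.prime _ T.ha, D.prime _ T.hc, D.prime _ D.mem]
    · exact Finset.card_eq_three.2 ⟨a, c, s, T.hac, T.has, T.hcs, rfl⟩
    · intro e he
      simp only [Finset.mem_insert, Finset.mem_singleton] at he
      rcases he with rfl | rfl | rfl
      · exact ⟨⟨_, hmem hu⟩, by rw [Subgroup.orderOf_mk]; exact hord.trans hy₁⟩
      · exact ⟨⟨_, hmem hv⟩, by rw [Subgroup.orderOf_mk]; exact hord.trans hy₂⟩
      · exact ⟨⟨_, hmem ht'⟩, by rw [Subgroup.orderOf_mk]; exact hord.trans ht⟩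
    · intro e he e' he' hne u v hu' hv' huv
      have key : ∀ {e}, e ∈ ({a, c, s} : Finset ℕ) → e ∈ π ∧ b ≠ e := by
        intro e he
        simp only [Finset.mem_insert, Finset.mem_singleton] at he
        rcases he with rfl | rfl | rfl
        exacts [⟨T.ha, T.hab.symm⟩, ⟨T.hc, T.hbc⟩, ⟨D.mem, T.hbs⟩]
      exact D.triple.false D.prime T.hb (key he).1 (key he').1 (key he).2 hne (key he').2 hz
        (by rw [Subgroup.orderOf_coe, hu']) (by rw [Subgroup.orderOf_coe, hv']) (hcom u) (hcom v)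
        (huv.map C.subtype)

/-- One prime in the Fitting subgroup, or the prime two, is impossible. -/
theorem false_of_core {p q r : ℕ} (T : Trio π s p q r) {M : Subgroup G} (hM : ElemNormal p M)
    (h : p = 2 ∨ ∀ l : ℕ, l.Prime → l ≠ p → Cfsg.pCore l G = ⊥) : False := by
  obtain ⟨x₀, y₀, hx₀, hy₀, hxy₀⟩ := D.pairs q T.hb r T.hc T.hbs T.hcs T.hbc
  obtain ⟨b, c, x, y, T', hx, hy, hxy, hS⟩ : ∃ b c : ℕ, ∃ x y : G, Trio π s p b c ∧
      orderOf x = b ∧ orderOf y = c ∧ Commute x y ∧ SplitPair ρ p M x y := by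
    rcases D.splitPair T hM hx₀ hy₀ hxy₀ with h1 | h1
    · exact ⟨q, r, x₀, y₀, T, hx₀, hy₀, hxy₀, h1⟩
    · exact ⟨r, q, y₀, x₀, T.swap, hy₀, hx₀, hxy₀.symm, h1⟩
  obtain ⟨hxM, hxf, hyM, hyf, hyt⟩ := hS
  have hp := D.prime p T'.ha
  by_cases hp2 : p = 2
  · obtain ⟨t, ht, hyt', hind⟩ := D.partner T'.swap hy
    obtain ⟨e, -, he, m, hm, hm1, hem⟩ :=
      exists_commute_elem (D.prime c T'.hc) hp T'.hac.symm hM hy ht hyt' hind
    have hmo := hM.orderOf_eq hp hm hm1
    have hmf : Fpf ρ m := by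
      by_contra hnf
      exact D.noBoth T' hnf hmo hx he (hxM m hm).symm hem.symm
    have hm2 : m ^ 2 = 1 := hp2 ▸ hM.pow_eq m hm
    have hinv : ∀ w, ρ m w = w⁻¹ := fun w => by
      have h1 : ρ m (ρ m w) = w := by
        rw [← MulAut.mul_apply, ← map_mul, ← pow_two, hm2, map_one, MulAut.one_apply]
      exact eq_inv_of_mul_eq_one_left (hmf _ (by rw [map_mul, h1, mul_comm]))
    refine hyt m hmo (D.inj (MulEquiv.ext fun w => ?_))
    rw [map_mul, map_mul, MulAut.mul_apply, MulAut.mul_apply, hinv, hinv, map_inv]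
  · haveI := D.solv
    have h' := h.resolve_left hp2
    have hcomm : ∀ z ∈ Cfsg.pCore p G, Commute x z := centralises_pGroup hp (D.prime b T'.hb)
      (D.prime s D.mem) hp2 T'.hab T'.has T'.hbs D.exp D.inj (hx ▸ pow_orderOf_eq_one x) hxf _
      (CfsgLib.Solvable.isPGroup_pCore p)
      (fun z hz => (CfsgLib.Solvable.pCore_normal p).conj_mem z hz x)
    exact not_orderOf_mem_sup hp hp (D.prime b T'.hb) T'.hab.symm T'.hab.symm hx
      (mem_sup_of_centralises D.solv (fun l hl h1 _ => h' l hl h1) hcomm hcomm)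

end ModData

end CfsgLib.TripleFree
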