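import Mathlib
import Cfsg.Agent.TripleFree.CaseA

/-!
The four-prime problem for a faithful module: two odd primes in the Fitting subgroup.
-/

set_option autoImplicit false
set_option linter.style.haveILetI false
set_option linter.unusedSectionVars false

open scoped IsMulCommutative

namespace CfsgLib.TripleFree

universe u

variable {G : Type u} [Group G] [Finite G] {W : Type u} [CommGroup W] [Finite W]
  {ρ : G →* MulAut W} {π : Finset ℕ} {s : ℕ}

/-- A `q`-group with all elements of order `q` in one cyclic group, `q` odd, on which an element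
of order `r ≠ q` fixes an element of order `q`, is centralised by it. -/
theorem commute_of_unique {q r : ℕ} (hq : q.Prime) (hr : r.Prime) (hq2 : q ≠ 2) (hqr : q ≠ r)
    {C : Subgroup G} (hC : IsPGroup q C) {n : G} (hn : orderOf n = q)
    (huniq : ∀ x ∈ C, orderOf x = q → x ∈ Subgroup.zpowers n) {z : G} (hz : z ^ r = 1)
    (hzn : Commute z n) (hnorm : ∀ x ∈ C, z * x * z⁻¹ ∈ C) : ∀ x ∈ C, Commute z x := by
  haveI := Fact.mk hq
  have hu : TwoGroupsQ.HasUniqueOrderP C q := by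
    intro a b ha hb hb1
    by_cases ha1 : a = 1
    · exact ha1 ▸ Subgroup.one_mem _
    have ha' : orderOf (a : G) = q := by rw [Subgroup.orderOf_coe]; exact orderOf_eq_prime ha ha1
    have hb' : orderOf (b : G) = q := by rw [Subgroup.orderOf_coe]; exact orderOf_eq_prime hb hb1
    have h1 : (a : G) ∈ Subgroup.zpowers (b : G) :=
      Subgroup.zpowers_le.2 (mem_zpowers_of_eq hq hb' hn (huniq _ b.2 hb')) (huniq _ a.2 ha')
    obtain ⟨k, hk⟩ := Subgroup.mem_zpowers_iff.1 h1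
    exact Subgroup.mem_zpowers_iff.2 ⟨k, Subtype.ext (by simpa using hk)⟩
  haveI := (TwoGroupsQ.isCyclic_or_quaternion hC hu).resolve_right fun h => hq2 h.1
  obtain ⟨g, hg⟩ := IsCyclic.exists_generator (α := C)
  have hcomm : ∀ a ∈ C, ∀ b ∈ C, a * b = b * a := fun a ha b hb => by
    obtain ⟨i, hi⟩ := Subgroup.mem_zpowers_iff.1 (hg ⟨a, ha⟩)
    obtain ⟨j, hj⟩ := Subgroup.mem_zpowers_iff.1 (hg ⟨b, hb⟩)
    have := congrArg Subtype.val ((Commute.refl g).zpow_zpow i j).eq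
    rwa [hi, hj] at this
  let δ : C →* G :=
    { toFun := fun a => z * (a : G) * z⁻¹ * (a : G)⁻¹
      map_one' := by simp
      map_mul' := fun a b => by
        have e : z * ((a * b : C) : G) * z⁻¹ * ((a * b : C) : G)⁻¹ =
            z * (a : G) * z⁻¹ * (z * (b : G) * z⁻¹ * (b : G)⁻¹ * (a : G)⁻¹) := by
          rw [Subgroup.coe_mul]; group
        rw [e, hcomm _ (mul_mem (hnorm _ b.2) (inv_mem b.2)) _ (inv_mem a.2), ← mul_assoc] }
  intro x hx
  by_contra hne
  -- some commutator has order `q`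
  have hd1 : δ ⟨x, hx⟩ ≠ 1 := fun h => hne (by
    have h' : z * x * z⁻¹ * x⁻¹ = 1 := h
    rwa [mul_inv_eq_one, mul_inv_eq_iff_eq_mul] at h')
  have hdC : δ ⟨x, hx⟩ ∈ C := mul_mem (hnorm x hx) (inv_mem hx)
  obtain ⟨j, hj⟩ := hC ⟨_, hdC⟩
  have hj' : orderOf (δ ⟨x, hx⟩) ∣ q ^ j :=
    orderOf_dvd_of_pow_eq_one (congrArg Subtype.val hj)
  have hqd : q ∣ orderOf (δ ⟨x, hx⟩) := by
    obtain ⟨i, -, hi⟩ := (Nat.dvd_prime_pow hq).1 hj'
    have : i ≠ 0 := fun h => hd1 (orderOf_eq_one_iff.1 (by rw [hi, h, pow_zero]))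
    rw [hi]
    exact dvd_pow_self q this
  obtain ⟨k, hk⟩ := exists_pow_orderOf hqd
  rw [← map_pow] at hk
  set a : C := (⟨x, hx⟩ : C) ^ k
  have hδa : z * (a : G) * z⁻¹ * (a : G)⁻¹ = δ a := rfl
  have hzd : Commute z (δ a) := commute_of_mem_zpowers hzn
    (huniq _ (mul_mem (hnorm _ a.2) (inv_mem a.2)) hk)
  have hiter : ∀ i : ℕ, z ^ i * (a : G) * (z ^ i)⁻¹ = δ a ^ i * a := by
    intro i
    induction i with
    | zero => simp
    | succ i ih =>
      calc z ^ (i + 1) * (a : G) * (z ^ (i + 1))⁻¹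
          = z * (z ^ i * (a : G) * (z ^ i)⁻¹) * z⁻¹ := by rw [pow_succ']; group
        _ = z * δ a ^ i * (a * z⁻¹) := by rw [ih]; group
        _ = δ a ^ i * (z * a * z⁻¹ * (a : G)⁻¹) * a := by rw [(hzd.pow_right i).eq]; group
        _ = δ a ^ (i + 1) * a := by rw [pow_succ, hδa]
  have h3 := hiter r
  rw [hz, one_mul, inv_one, mul_one, right_eq_mul] at h3
  exact hqr ((Nat.prime_dvd_prime_iff_eq hq hr).1 (hk ▸ orderOf_dvd_of_pow_eq_one h3))

namespace ModData

variable (D : ModData ρ π s)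
include D

/-- A fixed-point-free normal subgroup of order `q` yields an element of order `q` with fixed
points centralising the other core. -/
theorem side {p q r : ℕ} (T : Trio π s p q r) (hq2 : q ≠ 2) {M N : Subgroup G}
    (hMp : M ≤ Cfsg.pCore p G) (hM : ElemNormal p M) (hNq : N ≤ Cfsg.pCore q G)
    (hN : ElemNormal q N) {n : G} (hn : n ∈ N) (hn1 : n ≠ 1) (hnf : Fpf ρ n)
    (hNc : ∀ a ∈ N, ∀ b ∈ N, b ≠ 1 → a ∈ Subgroup.zpowers b) :
    ∃ y : G, orderOf y = q ∧ (∀ x ∈ Cfsg.pCore p G, Commute y x) ∧ Commute y n ∧ y ∉ N ∧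
      ¬ Fpf ρ y := by
  haveI := D.solv
  haveI := hN.normal
  haveI := hN.comm
  have hp := D.prime p T.ha
  have hq := D.prime q T.hb
  have hr := D.prime r T.hc
  have hs := D.prime s D.mem
  haveI := Fact.mk hp
  haveI := Fact.mk hq
  haveI := Fact.mk hr
  have hno := hN.orderOf_eq hq hn hn1
  have hNcard : Nat.card N = q := hN.card_eq hq hn hn1 hNc
  obtain ⟨m₀, hm₀, hm₀1, hm₀o⟩ := hM.exists_ne hp
  have hnP : ∀ c ∈ Cfsg.pCore p G, Commute n c := fun c hc =>
    commute_of_pCores hq hp T.hab.symm (hNq hn) hc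
  obtain ⟨x₀, z₀, hx₀, hz₀, -⟩ := D.pairs q T.hb r T.hc T.hbs T.hcs T.hbc
  haveI := D.nontrivial_module hn1
  obtain ⟨t₀, ht₀, hzt₀, hind₀⟩ := D.partner T.swap hz₀
  -- an element of order `r` moving `n`, and one fixing it
  obtain ⟨e, -, he, m, hm, hm1, hem⟩ :=
    exists_commute_elem hr hp T.hac.symm hM hz₀ ht₀ hzt₀ hind₀
  have hen : ¬ Commute e n := fun h =>
    D.triple.false D.prime T.ha T.hb T.hc T.hab T.hbc T.hac (hM.orderOf_eq hp hm hm1) hno he
      (hnP m (hMp hm)).symm hem.symm h.symm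
  have hrq : r ∣ q - 1 := dvd_pred_of_not_commute hq hr hNcard he hn hen
  have hrlt : r < q := by
    have := Nat.le_of_dvd (show 0 < q - 1 by have := hq.two_le; omega) hrq
    have := hq.two_le
    omega
  obtain ⟨z₁, -, hz₁, n', hn', hn'1, hz₁n'⟩ :=
    exists_commute_elem hr hq T.hbc.symm hN hz₀ ht₀ hzt₀ hind₀
  have hz₁n : Commute z₁ n := commute_all_of_cyclic hn' hn'1 hNc hz₁n' n hn
  have hns : ∀ t : G, orderOf t = s → ¬ Commute n t := fun t ht hnt =>
    module_not_both D.solv D.prime D.triple T.hb T.hc D.mem T.ha T.hbc T.hbs T.hab.symm T.hcs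
      T.hac.symm T.has.symm hM hno hm₀ hm₀1 (hnP m₀ (hMp hm₀)) hz₁ ht hz₁n.symm hnt
  -- an element of order `q` outside `N`
  obtain ⟨y₀, hy₀, hy₀N, hy₀n⟩ : ∃ y₀ : G, orderOf y₀ = q ∧ y₀ ∉ N ∧ Commute n y₀ := by
    obtain ⟨x, hx, hxd⟩ := D.single q T.hb T.hbs
    refine ⟨x, hx, fun hxN => ?_,
      (commute_of_normal_prime hq hq hNcard le_rfl (k := 1)
        (by rw [pow_one, ← hx, pow_orderOf_eq_one]) n hn).symm⟩
    have hnx : n ∈ Subgroup.zpowers x :=
      hNc n hn x hxN fun h => hq.one_lt.ne (by rw [← hx, h, orderOf_one])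
    rcases hxd with hxf | ⟨t, ht, hxt⟩
    · obtain ⟨w, hw1, hw⟩ := exists_fixed_of_not_fpf hxf
      obtain ⟨k, hk⟩ := Subgroup.mem_zpowers_iff.1 hnx
      exact hw1 (hnf w (hk ▸ fixed_zpow hw k))
    · exact hns t ht (commute_of_mem_zpowers hxt.symm hnx).symm
  -- a Hall subgroup of the centraliser of `n`
  set L := Subgroup.centralizer ({n} : Set G) with hL
  obtain ⟨H, hH⟩ := CfsgLib.Solvable.exists_isPiHall ({q, r} : Set ℕ) L
  have hmemL : ∀ {u : G}, Commute n u → u ∈ L :=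
    fun h => Subgroup.mem_centralizer_singleton_iff.2 h.symm.eq
  have hcomL : ∀ {u : G}, u ∈ L → Commute n u :=
    fun h => (Commute.symm (Subgroup.mem_centralizer_singleton_iff.1 h))
  have hinto : ∀ {u : G}, Commute n u → (orderOf u = q ∨ orderOf u = r) →
      ∃ g : G, Commute n g ∧ g * u * g⁻¹ ∈ H.map L.subtype := by
    intro u hu huo
    obtain ⟨g, hg⟩ := exists_mem_hall inferInstance hH (u := (⟨u, hmemL hu⟩ : L)) fun l hl hd => by
      rw [Subgroup.orderOf_mk] at hd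
      rcases huo with h | h <;> rw [h] at hd
      · exact Or.inl ((Nat.prime_dvd_prime_iff_eq hl hq).1 hd)
      · exact Or.inr ((Nat.prime_dvd_prime_iff_eq hl hr).1 hd)
    exact ⟨g, hcomL g.2, _, hg, rfl⟩
  have hord : ∀ {g t : G}, orderOf (g * t * g⁻¹) = orderOf t := fun {g t} =>
    orderOf_injective (MulAut.conj g).toMonoidHom (MulAut.conj g).injective t
  set H' := H.map L.subtype with hH'
  have hH'n : ∀ x ∈ H', Commute n x := by
    rintro _ ⟨u, -, rfl⟩
    exact hcomL u.2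
  have hH'π : ∀ l : ℕ, l.Prime → l ∣ Nat.card H' → l = q ∨ l = r := by
    intro l hl hd
    rw [hH', Subgroup.card_map_of_injective L.subtype_injective] at hd
    exact hH.1 l hl hd
  obtain ⟨y', hy'H, hy'o, hy'N⟩ : ∃ y', y' ∈ H' ∧ orderOf y' = q ∧ y' ∉ N := by
    obtain ⟨g, -, hg⟩ := hinto hy₀n (Or.inl hy₀)
    refine ⟨_, hg, hord.trans hy₀, fun h => hy₀N ?_⟩
    have := hN.normal.conj_mem _ h g⁻¹
    simpa [mul_assoc] using this
  obtain ⟨z', hz'H, hz'o⟩ : ∃ z', z' ∈ H' ∧ orderOf z' = r := by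
    obtain ⟨g, -, hg⟩ := hinto hz₁n.symm (Or.inr hz₁)
    exact ⟨_, hg, hord.trans hz₁⟩
  have hnH : n ∈ H' := by
    obtain ⟨g, hg', hg⟩ := hinto (Commute.refl n) (Or.inl hno)
    rwa [← hg'.eq, mul_inv_cancel_right] at hg
  -- no element of order `r` in `H'` centralises an element of the `p`-core
  have hrP : ∀ x ∈ H', orderOf x = r → ∀ c ∈ Cfsg.pCore p G, c ≠ 1 → ¬ Commute x c := by
    intro x hx hxo c hc hc1 hxc
    obtain ⟨k, hk⟩ := orderOf_dvd_of_mem_pCore hc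
    have hpc : p ∣ orderOf c := by
      obtain ⟨i, -, hi⟩ := (Nat.dvd_prime_pow hp).1 hk
      rw [hi]
      refine dvd_pow_self p fun h => hc1 (orderOf_eq_one_iff.1 ?_)
      rw [hi, h, pow_zero]
    obtain ⟨j, hj⟩ := exists_pow_orderOf hpc
    exact D.triple.false D.prime T.ha T.hb T.hc T.hab T.hbc T.hac hj hno hxo
      ((hnP c hc).symm.pow_left j) (hxc.symm.pow_left j) (hH'n x hx)
  haveI hPn := CfsgLib.Solvable.pCore_normal (G := G) p
  set C₀ := H' ⊓ Subgroup.centralizer ((Cfsg.pCore p G : Subgroup G) : Set G) with hC₀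
  have hC₀q : IsPGroup q C₀ := by
    refine isPGroup_of_orders fun x hx l hl hxo => ?_
    rcases hH'π l hl (hxo ▸ Subgroup.orderOf_dvd_natCard H' hx.1) with h | h
    · exact h
    · exact absurd (Subgroup.mem_centralizer_iff.1 hx.2 m₀ (hMp hm₀)).symm
        (hrP x hx.1 (hxo.trans h) m₀ (hMp hm₀) hm₀1)
  have hnC₀ : n ∈ C₀ := ⟨hnH, Subgroup.mem_centralizer_iff.2 fun c hc => (hnP c hc).eq.symm⟩
  -- it suffices to find a further element of order `q` in `C₀`
  suffices hsuff : ∃ y₁ ∈ C₀, orderOf y₁ = q ∧ y₁ ∉ N by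
    obtain ⟨y₁, hy₁, hy₁o, hy₁N⟩ := hsuff
    have hny₁ := hH'n y₁ hy₁.1
    have hind : y₁ ∉ Subgroup.zpowers n := fun h => hy₁N (Subgroup.zpowers_le.2 hn h)
    obtain ⟨y, hy, hy1, hyq, w, hw1, hw⟩ := exists_fixed_of_commute (ρ := ρ) hq D.exp
      (D.coprime_s T.hb T.hbs) hny₁.symm (hy₁o ▸ pow_orderOf_eq_one y₁)
      (hno ▸ pow_orderOf_eq_one n) hn1 hind
    have hyC : y ∈ C₀ := by
      refine (Subgroup.closure_le C₀).2 ?_ hy
      intro u hu
      simp only [Set.mem_insert_iff, Set.mem_singleton_iff] at hu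
      rcases hu with rfl | rfl
      exacts [hy₁, hnC₀]
    have hyf : ¬ Fpf ρ y := fun h => hw1 (h w hw)
    refine ⟨y, orderOf_eq_prime hyq hy1,
      fun c hc => (Subgroup.mem_centralizer_iff.1 hyC.2 c hc).symm, (hH'n y hyC.1).symm,
      fun hyN => ?_, hyf⟩
    obtain ⟨k, hk⟩ := Subgroup.mem_zpowers_iff.1 (hNc n hn y hyN hy1)
    exact hw1 (hnf w (hk ▸ fixed_zpow hw k))
  by_contra! hC₀N
  have hC₀u : ∀ x ∈ C₀, orderOf x = q → x ∈ Subgroup.zpowers n :=
    fun x hx hxo => hNc x (hC₀N x hx hxo) n hn hn1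
  -- the action on the layers of the `p`-core
  obtain ⟨V, iV, fV, ρV, hVexp, -, hVb, hVc, hVd⟩ :=
    exists_layer hp (Cfsg.pCore p G) (CfsgLib.Solvable.isPGroup_pCore p)
  haveI : Nontrivial V := by
    obtain ⟨w, hw, -⟩ := hVb 1 m₀ (hMp hm₀) hm₀1 (Commute.one_left _)
    exact ⟨⟨w, 1, hw⟩⟩
  set φ := ρV.comp H'.subtype with hφ
  have hkerC : ∀ x : H', φ x = 1 → (x : G) ∈ C₀ := by
    intro x hx
    refine ⟨x.2, Subgroup.mem_centralizer_iff.2 fun c hc => ?_⟩
    refine (hVd x ?_ hx c hc).eq.symm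
    intro hpd
    rcases hH'π p hp (hpd.trans (Subgroup.orderOf_dvd_natCard H' x.2)) with h | h
    · exact T.hab h
    · exact T.hac h
  have hker : IsPGroup q φ.ker := by
    intro x
    obtain ⟨k, hk⟩ := hC₀q ⟨((x : H') : G), hkerC x x.2⟩
    exact ⟨k, Subtype.ext (Subtype.ext (by simpa using congrArg Subtype.val hk))⟩
  have hrfpf : ∀ l : φ.range, orderOf l = r → Fpf φ.range.subtype l := by
    intro l hl
    obtain ⟨h, hh⟩ := l.2
    replace hl : orderOf (φ h) = r := by rw [hh, Subgroup.orderOf_coe, hl]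
    obtain ⟨k, hk, hmem⟩ := exists_lift_orderOf φ hq hr T.hbc hker hl
    intro w hw
    by_contra hw1
    obtain ⟨j, hj⟩ := Subgroup.mem_zpowers_iff.1
      (mem_zpowers_of_eq hr hl (by
        refine orderOf_eq_prime (by rw [← map_pow, ← hk, pow_orderOf_eq_one, map_one]) ?_
        intro h1
        rw [h1, Subgroup.zpowers_one_eq_bot, Subgroup.mem_bot] at hmem
        rw [hmem, orderOf_one] at hl
        exact hr.one_lt.ne hl) hmem)
    have hk' : orderOf ((h ^ k : H') : G) = r := by rw [Subgroup.orderOf_coe, hk]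
    have hfix : ρV ((h ^ k : H') : G) w = w := by
      show φ (h ^ k) w = w
      rw [← hj]
      exact fixed_zpow (ρ := MonoidHom.id (MulAut V)) (x := φ h) (by rw [hh]; exact hw) j
    obtain ⟨c, hc, hc1, hcc⟩ := hVc _
      (by rw [hk']; exact fun hd => T.hac ((Nat.prime_dvd_prime_iff_eq hp hr).1 hd))
      ⟨w, hw1, hfix⟩
    exact hrP _ (h ^ k).2 hk' c hc hc1 hcc
  haveI : Group.IsSolvable φ.range := Group.isSolvable_of_surjective φ.rangeRestrict_surjective
  have hLπ : ∀ l : ℕ, l.Prime → l ∣ Nat.card φ.range → l = q ∨ l = r :=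
    fun l hl hd => hH'π l hl (hd.trans (Subgroup.card_range_dvd φ))
  -- the `r`-core of the image is nontrivial
  have hcore : Cfsg.pCore r φ.range ≠ ⊥ := by
    intro hbot
    have hz'1 : φ ⟨z', hz'H⟩ ≠ 1 := by
      intro h1
      obtain ⟨k, hk⟩ := hker ⟨_, h1⟩
      have h2 : r ∣ q ^ k := by
        rw [← hz'o]
        exact orderOf_dvd_of_pow_eq_one (by
          simpa using congrArg (fun t : φ.ker => ((t : H') : G)) hk)
      exact T.hbc ((Nat.prime_dvd_prime_iff_eq hr hq).1 (hr.dvd_of_dvd_pow h2)).symm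
    let zb : φ.range := ⟨φ ⟨z', hz'H⟩, _, rfl⟩
    have hzb : orderOf zb = r := orderOf_eq_prime
      (Subtype.ext (by
        show φ ⟨z', hz'H⟩ ^ r = 1
        rw [← map_pow, show (⟨z', hz'H⟩ : H') ^ r = 1 from
          Subtype.ext (by simp [← hz'o, pow_orderOf_eq_one]), map_one]))
      (fun h => hz'1 (congrArg Subtype.val h))
    have hc := centralises_pGroup hq hr hp hq2 T.hbc T.hab.symm T.hac.symm hVexp
      (ρ := φ.range.subtype) φ.range.subtype_injective (hzb ▸ pow_orderOf_eq_one zb)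
      (hrfpf zb hzb) (Cfsg.pCore q φ.range) (CfsgLib.Solvable.isPGroup_pCore q)
      (fun x hx => (CfsgLib.Solvable.pCore_normal q).conj_mem x hx zb)
    refine not_orderOf_mem_sup hq hq hr T.hbc.symm T.hbc.symm hzb
      (mem_sup_of_centralises inferInstance (fun l hl h1 _ => ?_) hc hc)
    by_cases hlr : l = r
    · rw [hlr]; exact hbot
    haveI := Fact.mk hl
    exact CfsgLib.Solvable.pCore_eq_bot_of_not_dvd fun h =>
      (hLπ l hl h).elim h1 hlr
  obtain ⟨Z, -, hZ⟩ := exists_elem_le_pCore inferInstance hr hcore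
  haveI := hZ.normal
  obtain ⟨zb, hzbZ, hzb1, hzbo⟩ := hZ.exists_ne hr
  have hZc : ∀ a ∈ Z, ∀ b ∈ Z, b ≠ 1 → a ∈ Subgroup.zpowers b := by
    intro a ha b hb hb1
    refine mem_zpowers_of_semiregular (ρ := φ.range.subtype) hr hVexp
      ((Nat.coprime_primes hr hp).2 T.hac.symm) (g := 1) ?_ (Commute.one_left a) (Commute.one_left b)
      (hZ.mul_comm a ha b hb) (hZ.pow_eq a ha) (hZ.pow_eq b hb) hb1 fun x hx hx1 hxr w _ hw => ?_
    · intro h
      obtain ⟨w, hw⟩ := exists_ne (1 : V)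
      exact hw (h w (by simp))
    · exact hrfpf x (orderOf_eq_prime hxr hx1) w hw
  have hZcard : Nat.card Z = r := hZ.card_eq hr hzbZ hzb1 hZc
  -- a lift of a generator of the normal subgroup of order `r`
  obtain ⟨h, hh⟩ := zb.2
  have hho : orderOf (φ h) = r := by rw [hh, Subgroup.orderOf_coe, hzbo]
  obtain ⟨k, hk, -⟩ := exists_lift_orderOf φ hq hr T.hbc hker hho
  set z : G := ((h ^ k : H') : G) with hz
  have hzo : orderOf z = r := by rw [hz, Subgroup.orderOf_coe, hk]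
  have hzH : z ∈ H' := (h ^ k).2
  have hzr : z ^ r = 1 := hzo ▸ pow_orderOf_eq_one z
  have hzC₀ : ∀ c ∈ C₀, Commute z c := commute_of_unique hq hr hq2 T.hbc hC₀q hno hC₀u hzr
    (hH'n z hzH).symm fun c hc => ⟨H'.mul_mem (H'.mul_mem hzH hc.1) (H'.inv_mem hzH),
      (inferInstance : (Subgroup.centralizer ((Cfsg.pCore p G : Subgroup G) : Set G)).Normal).conj_mem
        c hc.2 z⟩
  have hzq : ∀ x ∈ H', orderOf x = q → Commute z x := by
    intro x hx hxo
    have hcomm : Commute (φ ⟨x, hx⟩) (φ (h ^ k)) := by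
      have hxp : (⟨φ ⟨x, hx⟩, _, rfl⟩ : φ.range) ^ q ^ 1 = 1 := Subtype.ext (by
        show φ ⟨x, hx⟩ ^ q ^ 1 = 1
        rw [← map_pow, show (⟨x, hx⟩ : H') ^ q ^ 1 = 1 from
          Subtype.ext (by simp [← hxo, pow_orderOf_eq_one]), map_one])
      have h1 := (commute_of_normal_prime hr hq hZcard hrlt.le hxp zb hzbZ).map φ.range.subtype
      simp only [Subgroup.coe_subtype] at h1
      rw [map_pow, hh]
      exact h1.pow_right k
    have hc : z * x * z⁻¹ * x⁻¹ ∈ C₀ := by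
      refine hkerC ((h ^ k) * ⟨x, hx⟩ * (h ^ k)⁻¹ * (⟨x, hx⟩ : H')⁻¹) ?_
      rw [map_mul, map_mul, map_mul, map_inv, map_inv, ← hcomm.eq, mul_inv_cancel_right,
        mul_inv_cancel]
    set c := z * x * z⁻¹ * x⁻¹ with hcdef
    have hiter : ∀ i : ℕ, z ^ i * x * (z ^ i)⁻¹ = c ^ i * x := by
      intro i
      induction i with
      | zero => simp
      | succ i ih =>
        calc z ^ (i + 1) * x * (z ^ (i + 1))⁻¹ = z * (z ^ i * x * (z ^ i)⁻¹) * z⁻¹ := by
              rw [pow_succ']; group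
          _ = z * c ^ i * (x * z⁻¹) := by rw [ih]; group
          _ = c ^ i * (z * x * z⁻¹ * x⁻¹) * x := by rw [((hzC₀ c hc).pow_right i).eq]; group
          _ = c ^ (i + 1) * x := by rw [pow_succ, ← hcdef]
    have h3 := hiter r
    rw [hzr, one_mul, inv_one, mul_one, right_eq_mul] at h3
    obtain ⟨j, hj⟩ := hC₀q ⟨c, hc⟩
    have h4 : orderOf c = 1 := Nat.eq_one_of_dvd_coprimes
      (Nat.Coprime.pow_right j ((Nat.coprime_primes hr hq).2 T.hbc.symm))
      (orderOf_dvd_of_pow_eq_one h3) (orderOf_dvd_of_pow_eq_one (congrArg Subtype.val hj))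
    rw [orderOf_eq_one_iff, hcdef, mul_inv_eq_one, mul_inv_eq_iff_eq_mul] at h4
    exact h4
  -- so `⟨y', n⟩` would act without fixed points
  have hind : y' ∉ Subgroup.zpowers n := fun h1 => hy'N (Subgroup.zpowers_le.2 hn h1)
  obtain ⟨y, hy, hy1, hyq, w, hw1, hw⟩ := exists_fixed_of_commute (ρ := ρ) hq D.exp
    (D.coprime_s T.hb T.hbs) (hH'n y' hy'H).symm (hy'o ▸ pow_orderOf_eq_one y')
    (hno ▸ pow_orderOf_eq_one n) hn1 hind
  have hyH : y ∈ H' := by
    refine (Subgroup.closure_le H').2 ?_ hy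
    intro u hu
    simp only [Set.mem_insert_iff, Set.mem_singleton_iff] at hu
    rcases hu with rfl | rfl
    exacts [hy'H, hnH]
  have hyo := orderOf_eq_prime hyq hy1
  rcases D.splitPair T hM hyo hzo (hzq y hyH hyo).symm with hsp | hsp
  · exact hw1 (hsp.2.1 w hw)
  · exact hrP z hzH hzo m₀ (hMp hm₀) hm₀1 (hsp.1 m₀ hm₀)

/-- An elementary subgroup centralising an element with fixed points is cyclic. -/
theorem cyclic_of_fixed {a b : ℕ} (ha : a ∈ π) (hb : b ∈ π) (has : a ≠ s) (hbs : b ≠ s)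
    (hab : a ≠ b) {M : Subgroup G} (hM : ElemNormal a M) {g : G} (hg : ¬ Fpf ρ g)
    (hgo : orderOf g = b) (hgM : ∀ m ∈ M, Commute g m) :
    ∀ u ∈ M, ∀ v ∈ M, v ≠ 1 → u ∈ Subgroup.zpowers v := fun u hu v hv hv1 =>
  mem_zpowers_of_semiregular (D.prime a ha) D.exp (D.coprime_s ha has) hg (hgM u hu) (hgM v hv)
    (hM.mul_comm u hu v hv) (hM.pow_eq u hu) (hM.pow_eq v hv) hv1 fun x hx hx1 hxa w hgw hxw =>
    haveI := Fact.mk (D.prime a ha)
    D.fix_pair b hb a ha hbs has hab.symm g x hgo (orderOf_eq_prime hxa hx1)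
      (commute_of_mem_closure_pair (hgM u hu) (hgM v hv) hx) w hgw hxw

theorem two_odd_aux {p q r : ℕ} (T : Trio π s p q r) (hp2 : p ≠ 2) (hq2 : q ≠ 2)
    (hcores : ∀ l, l.Prime → l ≠ p → l ≠ q → Cfsg.pCore l G = ⊥)
    {M N : Subgroup G} (hMp : M ≤ Cfsg.pCore p G) (hM : ElemNormal p M)
    (hNq : N ≤ Cfsg.pCore q G) (hN : ElemNormal q N) (hNf : ∀ n ∈ N, n ≠ 1 → Fpf ρ n) : False := by
  haveI := D.solv
  have hp := D.prime p T.ha
  have hq := D.prime q T.hb
  have hr := D.prime r T.hc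
  haveI := Fact.mk hp
  haveI := Fact.mk hq
  haveI := hM.normal
  obtain ⟨n, hn, hn1, hno⟩ := hN.exists_ne hq
  haveI := D.nontrivial_module hn1
  have hNc : ∀ a ∈ N, ∀ b ∈ N, b ≠ 1 → a ∈ Subgroup.zpowers b := fun a ha b hb hb1 =>
    mem_zpowers_of_semiregular (ρ := ρ) hq D.exp (D.coprime_s T.hb T.hbs) (g := 1)
      (fun h => by obtain ⟨w, hw⟩ := exists_ne (1 : W); exact hw (h w (by simp)))
      (Commute.one_left a) (Commute.one_left b) (hN.mul_comm a ha b hb) (hN.pow_eq a ha)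
      (hN.pow_eq b hb) hb1 fun x hx hx1 _ w _ hw => by
      refine hNf x ((Subgroup.closure_le N).2 ?_ hx) hx1 w hw
      intro u hu
      simp only [Set.mem_insert_iff, Set.mem_singleton_iff] at hu
      rcases hu with rfl | rfl
      exacts [ha, hb]
  obtain ⟨y, hyo, hyP, hyn, hyN, hyf⟩ := D.side T hq2 hMp hM hNq hN hn hn1 (hNf n hn hn1) hNc
  -- the symmetric element
  have hMc := D.cyclic_of_fixed T.ha T.hb T.has T.hbs T.hab hM hyf hyo fun m hm => hyP m (hMp hm)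
  obtain ⟨m, hm, hm1, hmo⟩ := hM.exists_ne hp
  have hmf : Fpf ρ m := by
    by_contra hmf
    obtain ⟨-, z₀, -, hz₀, -⟩ := D.pairs q T.hb r T.hc T.hbs T.hcs T.hbc
    obtain ⟨t₀, ht₀, hzt₀, hind⟩ := D.partner T.swap hz₀
    obtain ⟨e, -, he, m', hm', hm'1, hem⟩ :=
      exists_commute_elem hr hp T.hac.symm hM hz₀ ht₀ hzt₀ hind
    exact D.noBoth T hmf hmo hyo he (hyP m (hMp hm)).symm
      (commute_all_of_cyclic hm' hm'1 hMc hem m hm).symm
  obtain ⟨x, hxo, hxQ, -, -, hxf⟩ := D.side T.swap₁ hp2 hNq hN hMp hM hm hm1 hmf hMc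
  -- `x` and `y` commute
  have hnormC : ∀ (l : ℕ) (g a : G), (∀ c ∈ Cfsg.pCore l G, Commute a c) →
      ∀ c ∈ Cfsg.pCore l G, Commute (g * a * g⁻¹) c := fun l g a ha c hc => by
    have h1 := (CfsgLib.Solvable.pCore_normal (G := G) l).conj_mem c hc g⁻¹
    rw [inv_inv] at h1
    have h2 := (ha _ h1).map (MulAut.conj g).toMonoidHom
    simpa [mul_assoc] using h2
  set c := y * x * y⁻¹ * x⁻¹ with hc
  have hcP : ∀ d ∈ Cfsg.pCore p G, Commute c d := by
    intro d hd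
    rw [show c = y * (x * y⁻¹ * x⁻¹) by rw [hc]; group]
    exact (hyP d hd).mul_left
      (hnormC p x y⁻¹ (fun e he => (hyP e he).inv_left) d hd)
  have hcQ : ∀ d ∈ Cfsg.pCore q G, Commute c d := by
    intro d hd
    exact (hnormC q y x hxQ d hd).mul_left (hxQ d hd).inv_left
  obtain ⟨a, ha, b, hb, hab'⟩ :=
    (haveI := CfsgLib.Solvable.pCore_normal (G := G) q; Subgroup.mem_sup_of_normal_right).1
      (mem_sup_of_centralises D.solv hcores hcP hcQ)
  have key : ∀ {p q : ℕ}, p.Prime → q.Prime → p ≠ q → ∀ {x y a b : G}, orderOf y = q →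
      a ∈ Cfsg.pCore p G → b ∈ Cfsg.pCore q G → a * b = y * x * y⁻¹ * x⁻¹ →
      (∀ d ∈ Cfsg.pCore p G, Commute y d) → a = 1 := by
    intro p q hp hq hpq x y a b hy ha hb hab hyP
    haveI := CfsgLib.Solvable.pCore_normal (G := G) q
    let π' := QuotientGroup.mk' (Cfsg.pCore q G)
    have hb1 : π' b = 1 := (QuotientGroup.eq_one_iff b).2 hb
    have h1 : π' a = π' (y * x * y⁻¹ * x⁻¹) := by rw [← hab, map_mul, hb1, mul_one]
    have hiter : ∀ i : ℕ, π' (y ^ i * x * (y ^ i)⁻¹) = π' a ^ i * π' x := by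
      intro i
      induction i with
      | zero => simp
      | succ i ih =>
        rw [show y ^ (i + 1) * x * (y ^ (i + 1))⁻¹ = y * (y ^ i * x * (y ^ i)⁻¹) * y⁻¹ by
          rw [pow_succ']; group, map_mul, map_mul, ih, map_inv,
          show π' y * (π' a ^ i * π' x) * (π' y)⁻¹ = π' y * π' a ^ i * (π' x * (π' y)⁻¹) by group,
          (((hyP a ha).map π').pow_right i).eq, pow_succ, h1]
        simp only [map_mul, map_inv]
        group
    have h2 := hiter q
    rw [show y ^ q = 1 from hy ▸ pow_orderOf_eq_one y, one_mul, inv_one, mul_one,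
      right_eq_mul] at h2
    obtain ⟨k, hk⟩ := orderOf_dvd_of_mem_pCore ha
    have h3 : orderOf (π' a) = 1 := Nat.eq_one_of_dvd_coprimes
      (Nat.Coprime.pow_right k ((Nat.coprime_primes hq hp).2 hpq.symm))
      (orderOf_dvd_of_pow_eq_one h2) ((orderOf_map_dvd π' a).trans hk)
    have haQ : a ∈ Cfsg.pCore q G := (QuotientGroup.eq_one_iff a).1 (orderOf_eq_one_iff.1 h3)
    haveI := Fact.mk hp
    haveI := Fact.mk hq
    exact Subgroup.mem_bot.1 ((IsPGroup.disjoint_of_ne _ _ hpq _ _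
      (CfsgLib.Solvable.isPGroup_pCore p) (CfsgLib.Solvable.isPGroup_pCore q)).le_bot ⟨ha, haQ⟩)
  have ha1 : a = 1 := key hp hq T.hab hyo ha hb hab' hyP
  have hb1 : b⁻¹ = 1 := key hq hp T.hab.symm (x := y) (y := x) hxo (inv_mem hb) (inv_mem ha)
    (by rw [← mul_inv_rev, hab', hc]; group) hxQ
  have hxy : Commute x y := by
    have h1 : c = 1 := by rw [← hab', ha1, inv_eq_one.1 hb1, mul_one]
    rw [hc, mul_inv_eq_one, mul_inv_eq_iff_eq_mul] at h1
    exact h1.symm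
  -- `⟨y, n⟩` would be semiregular on the fixed points of `x`
  refine hyN (Subgroup.zpowers_le.2 hn (mem_zpowers_of_semiregular hq D.exp (D.coprime_s T.hb T.hbs)
    hxf hxy (hxQ n (hNq hn)) hyn (hyo ▸ pow_orderOf_eq_one y) (hno ▸ pow_orderOf_eq_one n) hn1
    fun u hu hu1 huq w hxw huw => ?_))
  exact D.fix_pair p T.ha q T.hb T.has T.hbs T.hab x u hxo (orderOf_eq_prime huq hu1)
    (commute_of_mem_closure_pair hxy (hxQ n (hNq hn)) hu) w hxw huw

/-- Two odd primes in the Fitting subgroup are impossible. -/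
theorem two_odd {p q r : ℕ} (T : Trio π s p q r) (hp2 : p ≠ 2) (hq2 : q ≠ 2)
    (hcores : ∀ l, l.Prime → l ≠ p → l ≠ q → Cfsg.pCore l G = ⊥)
    {M N : Subgroup G} (hMp : M ≤ Cfsg.pCore p G) (hM : ElemNormal p M)
    (hNq : N ≤ Cfsg.pCore q G) (hN : ElemNormal q N) : False := by
  by_cases hNf : ∀ n ∈ N, n ≠ 1 → Fpf ρ n
  · exact D.two_odd_aux T hp2 hq2 hcores hMp hM hNq hN hNf
  by_cases hMf : ∀ m ∈ M, m ≠ 1 → Fpf ρ m
  · exact D.two_odd_aux T.swap₁ hq2 hp2 (fun l hl h1 h2 => hcores l hl h2 h1) hNq hN hMp hM hMf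
  push Not at hNf hMf
  obtain ⟨n, hn, hn1, hnf⟩ := hNf
  obtain ⟨m, hm, hm1, hmf⟩ := hMf
  have hp := D.prime p T.ha
  have hq := D.prime q T.hb
  have hr := D.prime r T.hc
  have hmo := hM.orderOf_eq hp hm hm1
  have hno := hN.orderOf_eq hq hn hn1
  have hMN : ∀ a ∈ M, ∀ b ∈ N, Commute a b := fun a ha b hb =>
    commute_of_pCores hp hq T.hab (hMp ha) (hNq hb)
  have hMc := D.cyclic_of_fixed T.ha T.hb T.has T.hbs T.hab hM hnf hno
    fun a ha => (hMN a ha n hn).symm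
  obtain ⟨-, z₀, -, hz₀, -⟩ := D.pairs q T.hb r T.hc T.hbs T.hcs T.hbc
  obtain ⟨t₀, ht₀, hzt₀, hind⟩ := D.partner T.swap hz₀
  obtain ⟨e, -, he, m', hm', hm'1, hem⟩ :=
    exists_commute_elem hr hp T.hac.symm hM hz₀ ht₀ hzt₀ hind
  exact D.noBoth T hmf hmo hno he (hMN m hm n hn)
    (commute_all_of_cyclic hm' hm'1 hMc hem m hm).symm

end ModData

end CfsgLib.TripleFree
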