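import Mathlib
import Cfsg.Agent.TripleFree.TwoOdd
import Cfsg.Agent.TripleFree.CaseB

/-!
Four primes pairwise, but not triply, joined in the orders of elements force non-solvability.
-/

set_option autoImplicit false
set_option linter.style.haveILetI false
set_option linter.unusedSectionVars false

open scoped IsMulCommutative

namespace CfsgLib.TripleFree

universe u

variable {G : Type u} [Group G] [Finite G] {π : Finset ℕ}

theorem exists_three_others (hcard : π.card = 4) {s : ℕ} (hs : s ∈ π) :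
    ∃ a b c : ℕ, Quad π s a b c := by
  have h3 : (π.erase s).card = 3 := by rw [Finset.card_erase_of_mem hs, hcard]
  obtain ⟨a, b, c, hab, hac, hbc, he⟩ := Finset.card_eq_three.1 h3
  have hmem : ∀ {l}, l ∈ ({a, b, c} : Finset ℕ) → l ≠ s ∧ l ∈ π := fun h =>
    Finset.mem_erase.1 (he ▸ h)
  obtain ⟨ha1, ha2⟩ := hmem (l := a) (by simp)
  obtain ⟨hb1, hb2⟩ := hmem (l := b) (by simp)
  obtain ⟨hc1, hc2⟩ := hmem (l := c) (by simp)
  refine ⟨a, b, c, hs, ha2, hb2, hc2, ha1.symm, hb1.symm, hc1.symm, hab, hac, hbc, fun l hl => ?_⟩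
  by_cases hls : l = s
  · exact Or.inl hls
  have h1 : l ∈ ({a, b, c} : Finset ℕ) := he ▸ Finset.mem_erase.2 ⟨hls, hl⟩
  simp only [Finset.mem_insert, Finset.mem_singleton] at h1
  exact Or.inr h1

theorem pCore_bot_of_others {p q : ℕ} (hprimes : ∀ l : ℕ, l.Prime → l ∣ Nat.card G → l ∈ π)
    (hbot : ∀ l ∈ π, l ≠ p → l ≠ q → Cfsg.pCore l G = ⊥) :
    ∀ l, l.Prime → l ≠ p → l ≠ q → Cfsg.pCore l G = ⊥ := fun l hl h1 h2 => by
  haveI := Fact.mk hl
  by_cases hd : l ∣ Nat.card G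
  · exact hbot l (hprimes l hl hd) h1 h2
  · exact CfsgLib.Solvable.pCore_eq_bot_of_not_dvd hd

theorem exists_core_ne_bot (hsolv : Group.IsSolvable G) [Nontrivial G]
    (hprimes : ∀ l : ℕ, l.Prime → l ∣ Nat.card G → l ∈ π) :
    ∃ l ∈ π, Cfsg.pCore l G ≠ ⊥ := by
  obtain ⟨M, r, hr, hM, hrd⟩ := exists_minimal_elem hsolv
  haveI := hM.normal
  haveI := Fact.mk hr
  refine ⟨r, hprimes r hr (hrd.trans (Subgroup.card_subgroup_dvd_card M)), fun h => hM.ne_bot ?_⟩
  exact le_bot_iff.1 (h ▸ CfsgLib.Solvable.le_pCore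
    (fun x : M => ⟨1, by rw [pow_one]; exact hM.pow_sub x⟩ : IsPGroup r M))

theorem exists_orderOf_core {p : ℕ} (hp : p.Prime) (h : Cfsg.pCore p G ≠ ⊥) :
    ∃ x ∈ Cfsg.pCore p G, orderOf x = p := by
  haveI := Fact.mk hp
  haveI : Nontrivial (Cfsg.pCore p G) := (Subgroup.nontrivial_iff_ne_bot _).2 h
  obtain ⟨n, hn⟩ := IsPGroup.iff_card.1 (CfsgLib.Solvable.isPGroup_pCore (G := G) p)
  have hn0 : n ≠ 0 := by
    intro h0
    rw [h0, pow_zero] at hn
    exact absurd (Finite.one_lt_card (α := Cfsg.pCore p G)) (by rw [hn]; omega)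
  obtain ⟨x, hx⟩ := exists_prime_orderOf_dvd_card' (G := Cfsg.pCore p G) p
    (hn ▸ dvd_pow_self p hn0)
  exact ⟨x, x.2, by rw [Subgroup.orderOf_coe, hx]⟩

theorem not_three_cores (hπ : ∀ a ∈ π, a.Prime) (hT : NoTriple G π) {a b c : ℕ} (ha : a ∈ π)
    (hb : b ∈ π) (hc : c ∈ π) (hab : a ≠ b) (hbc : b ≠ c) (hac : a ≠ c)
    (h1 : Cfsg.pCore a G ≠ ⊥) (h2 : Cfsg.pCore b G ≠ ⊥) (h3 : Cfsg.pCore c G ≠ ⊥) : False := by
  obtain ⟨x, hx, hxo⟩ := exists_orderOf_core (hπ a ha) h1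
  obtain ⟨y, hy, hyo⟩ := exists_orderOf_core (hπ b hb) h2
  obtain ⟨z, hz, hzo⟩ := exists_orderOf_core (hπ c hc) h3
  exact hT.false hπ ha hb hc hab hbc hac hxo hyo hzo
    (commute_of_pCores (hπ a ha) (hπ b hb) hab hx hy)
    (commute_of_pCores (hπ a ha) (hπ c hc) hac hx hz)
    (commute_of_pCores (hπ b hb) (hπ c hc) hbc hy hz)

/-- The faithful module case is impossible. -/
theorem ModData.absurd' {W : Type u} [CommGroup W] [Finite W] {ρ : G →* MulAut W} {s : ℕ}
    (D : ModData ρ π s) (hcard : π.card = 4)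
    (hprimes : ∀ l : ℕ, l.Prime → l ∣ Nat.card G → l ∈ π) (hcore : Cfsg.pCore s G = ⊥) : False := by
  obtain ⟨a, b, c, Q⟩ := exists_three_others hcard D.mem
  obtain ⟨x, hx, -⟩ := D.single a Q.hq Q.hpq.symm
  haveI : Nontrivial G :=
    ⟨⟨x, 1, fun h => (D.prime a Q.hq).one_lt.ne (by rw [← hx, h, orderOf_one])⟩⟩
  obtain ⟨p, hp, hpc⟩ := exists_core_ne_bot D.solv hprimes
  -- name the two other primes
  have T0 : Trio π s a b c :=
    ⟨Q.hq, Q.hr, Q.hs, Q.hpq.symm, Q.hpr.symm, Q.hps.symm, Q.hqr, Q.hqs, Q.hrs⟩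
  obtain ⟨q, r, T, hcov⟩ : ∃ q r, Trio π s p q r ∧ ∀ l ∈ π, l = s ∨ l = p ∨ l = q ∨ l = r := by
    rcases Q.cover p hp with h | h | h | h
    · exact absurd (h ▸ hcore) hpc
    · exact ⟨b, c, h ▸ T0, fun l hl => by rcases Q.cover l hl with h' | h' | h' | h' <;> simp [h, h']⟩
    · exact ⟨c, a, h ▸ T0.rot, fun l hl => by
        rcases Q.cover l hl with h' | h' | h' | h' <;> simp [h, h']⟩
    · exact ⟨a, b, h ▸ T0.rot.rot, fun l hl => by
        rcases Q.cover l hl with h' | h' | h' | h' <;> simp [h, h']⟩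
  -- each of the two others has trivial core, or gives the two-prime case
  have other : ∀ {q r : ℕ}, Trio π s p q r → (∀ l ∈ π, l = s ∨ l = p ∨ l = q ∨ l = r) →
      Cfsg.pCore q G ≠ ⊥ → False := by
    intro q r T hcov hqc
    obtain ⟨M, hMle, hM⟩ := exists_elem_le_pCore D.solv (D.prime p T.ha) hpc
    obtain ⟨N, hNle, hN⟩ := exists_elem_le_pCore D.solv (D.prime q T.hb) hqc
    by_cases hp2 : p = 2
    · exact D.false_of_core T hM (Or.inl hp2)
    by_cases hq2 : q = 2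
    · exact D.false_of_core T.swap₁ hN (Or.inl hq2)
    refine D.two_odd T hp2 hq2 (pCore_bot_of_others hprimes fun l hl h1 h2 => ?_) hMle hM hNle hN
    rcases hcov l hl with h | h | h | h
    · rw [h]; exact hcore
    · exact absurd h h1
    · exact absurd h h2
    · by_contra hlc
      exact not_three_cores D.prime D.triple T.ha T.hb T.hc T.hab T.hbc T.hac hpc hqc (h ▸ hlc)
  by_cases hqc : Cfsg.pCore q G = ⊥
  swap
  · exact other T hcov hqc
  by_cases hrc : Cfsg.pCore r G = ⊥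
  swap
  · exact other T.swap (fun l hl => by rcases hcov l hl with h | h | h | h <;> tauto) hrc
  obtain ⟨M, -, hM⟩ := exists_elem_le_pCore D.solv (D.prime p T.ha) hpc
  refine D.false_of_core T hM (Or.inr fun l hl hlp => ?_)
  refine pCore_bot_of_others (q := p) hprimes (fun l hl h1 _ => ?_) l hl hlp hlp
  rcases hcov l hl with h | h | h | h
  exacts [h ▸ hcore, absurd h h1, h ▸ hqc, h ▸ hrc]

/-- One prime in the Fitting subgroup is impossible. -/
theorem JoinData.false_of_one (D : JoinData G π) (hcard : π.card = 4) {s : ℕ} (hs : s ∈ π)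
    (hcores : ∀ l, l.Prime → l ≠ s → Cfsg.pCore l G = ⊥) : False := by
  have hsp := D.prime s hs
  haveI := Fact.mk hsp
  haveI := D.solv
  haveI hSn := CfsgLib.Solvable.pCore_normal (G := G) s
  set S := Cfsg.pCore s G
  obtain ⟨W, iW, fW, ρ, hexp, ha, hb, hc, hd⟩ :=
    exists_layer hsp S (CfsgLib.Solvable.isPGroup_pCore s)
  have hndvd : ∀ {x : G} {l : ℕ}, l.Prime → l ≠ s → orderOf x = l → ¬ s ∣ orderOf x := by
    intro x l hl hls hx hd
    exact hls ((Nat.prime_dvd_prime_iff_eq hsp hl).1 (hx ▸ hd)).symm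
  have hKs : IsPGroup s ρ.ker := isPGroup_of_orders fun x hx l hl hxo => by
    by_contra hls
    have hc1 : ∀ y ∈ S, Commute x y := hd x (hndvd hl hls hxo) hx
    exact not_orderOf_mem_sup hsp hsp hl hls hls hxo
      (mem_sup_of_centralises D.solv (fun l hl h1 _ => hcores l hl h1) hc1 hc1)
  have hKS : ρ.ker ≤ S := CfsgLib.Solvable.le_pCore hKs
  have hprime_img : ∀ {x : G} {l : ℕ}, l.Prime → l ≠ s → orderOf x = l →
      orderOf (ρ.rangeRestrict x) = l := by
    intro x l hl hls hx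
    haveI := Fact.mk hl
    refine orderOf_eq_prime (by rw [← map_pow, ← hx, pow_orderOf_eq_one, map_one]) fun h => ?_
    obtain ⟨k, hk⟩ := hKs ⟨x, (MonoidHom.ker_rangeRestrict ρ).le h⟩
    exact hls ((Nat.prime_dvd_prime_iff_eq hl hsp).1 (hl.dvd_of_dvd_pow (hx ▸
      orderOf_dvd_of_pow_eq_one (congrArg Subtype.val hk : x ^ s ^ k = 1))))
  have hprimes : ∀ l : ℕ, l.Prime → l ∣ Nat.card ρ.range → l ∈ π :=
    fun l hl hd => D.primes l hl (hd.trans (Subgroup.card_range_dvd ρ))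
  have MD : ModData ρ.range.subtype π s := by
    refine ⟨Group.isSolvable_of_surjective ρ.rangeRestrict_surjective, ρ.range.subtype_injective,
      hexp, D.prime, hs, ?_, ?_, ?_, ?_⟩
    · intro a ha b hb has hbs hab
      obtain ⟨x, y, hx, hy, hxy⟩ := D.pairs a ha b hb hab
      exact ⟨_, _, hprime_img (D.prime a ha) has hx, hprime_img (D.prime b hb) hbs hy,
        hxy.map ρ.rangeRestrict⟩
    · intro a ha b hb c hc' hab hbc hac g hg
      obtain ⟨h, rfl⟩ := ρ.rangeRestrict_surjective g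
      exact D.triple a ha b hb c hc' hab hbc hac h (hg.trans (orderOf_map_dvd _ h))
    · intro a ha b hb has hbs hab x y hx hy hxy w hxw hyw
      by_contra hw
      have hap := D.prime a ha
      have hbp := D.prime b hb
      obtain ⟨h, hh⟩ := ρ.rangeRestrict_surjective (x * y)
      obtain ⟨k, hk⟩ := exists_pow_orderOf (show a * b ∣ orderOf h by
        rw [← orderOf_mul_of_primes hxy hap hbp hab hx hy, ← hh]
        exact orderOf_map_dvd _ h)
      have hfix : ρ (h ^ k) w = w := by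
        refine fixed_pow ?_ k
        have h1 : ρ h = ρ.range.subtype (x * y) := by rw [← hh]; rfl
        rw [h1, map_mul, MulAut.mul_apply, hyw, hxw]
      have hns : ¬ s ∣ orderOf (h ^ k) := by
        rw [hk]
        intro hd'
        rcases hsp.dvd_mul.1 hd' with hd' | hd'
        · exact has ((Nat.prime_dvd_prime_iff_eq hsp hap).1 hd').symm
        · exact hbs ((Nat.prime_dvd_prime_iff_eq hsp hbp).1 hd').symm
      obtain ⟨c, hcS, hc1, hcc⟩ := hc _ hns ⟨w, hw, hfix⟩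
      obtain ⟨i, hi⟩ := orderOf_dvd_of_mem_pCore hcS
      obtain ⟨ju, hju⟩ := exists_pow_orderOf (show s ∣ orderOf c by
        obtain ⟨e, -, he⟩ := (Nat.dvd_prime_pow hsp).1 hi
        rw [he]
        refine dvd_pow_self s fun h0 => hc1 (orderOf_eq_one_iff.1 ?_)
        rw [he, h0, pow_zero])
      obtain ⟨u, hu⟩ := exists_pow_orderOf (g := h ^ k) (n := a) (hk ▸ dvd_mul_right a b)
      obtain ⟨v, hv⟩ := exists_pow_orderOf (g := h ^ k) (n := b) (hk ▸ dvd_mul_left b a)
      exact D.triple.false D.prime ha hb hs hab hbs has hu hv hju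
        (((Commute.refl _).pow_left u).pow_right v) ((hcc.pow_left u).pow_right ju)
        ((hcc.pow_left v).pow_right ju)
    · intro a ha has
      obtain ⟨x, t, hx, ht, hxt⟩ := D.pairs a ha s hs has
      refine ⟨_, hprime_img (D.prime a ha) has hx, ?_⟩
      by_cases htK : ρ t = 1
      · left
        intro hf
        obtain ⟨w, hw1, hw⟩ := hb x t (hKS htK)
          (fun h => hsp.one_lt.ne (by rw [← ht, h, orderOf_one])) hxt
        exact hw1 (hf w hw)
      · right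
        refine ⟨ρ.rangeRestrict t, orderOf_eq_prime ?_ ?_, hxt.map _⟩
        · rw [← map_pow, ← ht, pow_orderOf_eq_one, map_one]
        · exact fun h => htK (congrArg Subtype.val h)
  refine MD.absurd' hcard hprimes ?_
  -- the image has no normal `s`-subgroup
  haveI := CfsgLib.Solvable.pCore_normal (G := ρ.range) s
  have hpre : IsPGroup s ((Cfsg.pCore s ρ.range).comap ρ.rangeRestrict) :=
    IsPGroup.comap_of_ker_isPGroup (CfsgLib.Solvable.isPGroup_pCore s) _
      (by rw [MonoidHom.ker_rangeRestrict]; exact hKs)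
  have hle : (Cfsg.pCore s ρ.range).comap ρ.rangeRestrict ≤ S := CfsgLib.Solvable.le_pCore hpre
  rw [Subgroup.eq_bot_iff_forall]
  intro g hg
  obtain ⟨h, rfl⟩ := ρ.rangeRestrict_surjective g
  exact Subtype.ext (ha h (hle hg))

/-- The four-prime theorem for a group whose order involves only these primes. -/
theorem JoinData.absurd' (D : JoinData G π) (hcard : π.card = 4) : False := by
  obtain ⟨a, ha⟩ := (Finset.card_pos.1 (by omega : 0 < π.card))
  obtain ⟨b, c, d, Q⟩ := exists_three_others hcard ha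
  obtain ⟨x, -, hx, -, -⟩ := D.pairs a Q.hp b Q.hq Q.hpq
  haveI : Nontrivial G :=
    ⟨⟨x, 1, fun h => (D.prime a Q.hp).one_lt.ne (by rw [← hx, h, orderOf_one])⟩⟩
  obtain ⟨p, hp, hpc⟩ := exists_core_ne_bot D.solv D.primes
  obtain ⟨q, r, s, Q⟩ := exists_three_others hcard hp
  have two : ∀ {q r s : ℕ}, Quad π p q r s → Cfsg.pCore q G ≠ ⊥ → False := by
    intro q r s Q hqc
    obtain ⟨M, hMle, hM⟩ := exists_elem_le_pCore D.solv (D.prime p Q.hp) hpc
    obtain ⟨N, hNle, hN⟩ := exists_elem_le_pCore D.solv (D.prime q Q.hq) hqc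
    exact D.false_of_two Q hMle hM hNle hN
  by_cases hq : Cfsg.pCore q G = ⊥
  swap
  · exact two Q hq
  by_cases hr : Cfsg.pCore r G = ⊥
  swap
  · exact two (q := r) (r := q) (s := s) ⟨Q.hp, Q.hr, Q.hq, Q.hs, Q.hpr, Q.hpq, Q.hps, Q.hqr.symm,
      Q.hrs, Q.hqs, fun l hl => by rcases Q.cover l hl with h | h | h | h <;> tauto⟩ hr
  by_cases hs : Cfsg.pCore s G = ⊥
  swap
  · exact two (q := s) (r := r) (s := q) ⟨Q.hp, Q.hs, Q.hr, Q.hq, Q.hps, Q.hpr, Q.hpq, Q.hrs.symm,
      Q.hqs.symm, Q.hqr.symm, fun l hl => by rcases Q.cover l hl with h | h | h | h <;> tauto⟩ hs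
  refine D.false_of_one hcard hp fun l hl hlp => ?_
  refine pCore_bot_of_others (q := p) D.primes (fun l hl h1 _ => ?_) l hl hlp hlp
  rcases Q.cover l hl with h | h | h | h
  exacts [absurd h h1, h ▸ hq, h ▸ hr, h ▸ hs]

/-- Four primes pairwise but not triply joined in element orders exclude solvability. -/
theorem not_isSolvable_of_four_primes {G : Type u} [Group G] [Finite G] (σ : Finset ℕ)
    (hσ : 4 ≤ σ.card) (hprime : ∀ p ∈ σ, p.Prime)
    (h2 : ∀ p ∈ σ, ∀ q ∈ σ, p ≠ q → ∃ g : G, orderOf g = p * q)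
    (h3 : ∀ p ∈ σ, ∀ q ∈ σ, ∀ r ∈ σ, p ≠ q → q ≠ r → p ≠ r → ∀ g : G, orderOf g ≠ p * q * r) :
    ¬ Group.IsSolvable G := by
  intro hsolv
  haveI := hsolv
  obtain ⟨π, hπσ, hcard⟩ := Finset.exists_subset_card_eq hσ
  obtain ⟨H, hH⟩ := CfsgLib.Solvable.exists_isPiHall ((π : Set ℕ)) G
  have hT : NoTriple G π := fun a ha b hb c hc hab hbc hac g hg => by
    obtain ⟨k, hk⟩ := exists_pow_orderOf hg
    exact h3 a (hπσ ha) b (hπσ hb) c (hπσ hc) hab hbc hac (g ^ k) hk
  refine JoinData.absurd' (G := H) (π := π) ⟨inferInstance, fun a ha => hprime a (hπσ ha), ?_,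
    hT.subgroup H, fun l hl hd => by exact_mod_cast hH.1 l hl hd⟩ hcard
  intro a ha b hb hab
  obtain ⟨g, hg⟩ := h2 a (hπσ ha) b (hπσ hb) hab
  have hap := hprime a (hπσ ha)
  have hbp := hprime b (hπσ hb)
  obtain ⟨t, ht⟩ := exists_mem_hall hsolv hH (u := g) fun l hl hd => by
    rw [hg] at hd
    rcases hl.dvd_mul.1 hd with hd | hd
    · exact Finset.mem_coe.2 ((Nat.prime_dvd_prime_iff_eq hl hap).1 hd ▸ ha)
    · exact Finset.mem_coe.2 ((Nat.prime_dvd_prime_iff_eq hl hbp).1 hd ▸ hb)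
  have ho : orderOf (⟨t * g * t⁻¹, ht⟩ : H) = a * b := by
    rw [Subgroup.orderOf_mk, ← hg]
    exact orderOf_injective (MulAut.conj t).toMonoidHom (MulAut.conj t).injective g
  obtain ⟨i, hi⟩ := exists_pow_orderOf (ho ▸ dvd_mul_right a b : a ∣ orderOf _)
  obtain ⟨j, hj⟩ := exists_pow_orderOf (ho ▸ dvd_mul_left b a : b ∣ orderOf _)
  exact ⟨_, _, hi, hj, ((Commute.refl _).pow_left i).pow_right j⟩

end CfsgLib.TripleFree
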